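import Groth.Agent.SmoothingLib.SyntomicLift.Local
import Groth.Agent.SmoothingLib.IdemLift
import Groth.Agent.Synt44.FlatLCI
import Groth.Agent.Synt44.LCIOver
import Groth.Agent.Synt44.BaseChange
import Groth.Agent.QReg.Local
import Groth.Agent.KReg44.Ideal
import Mathlib.RingTheory.Flat.EquationalCriterion

/-!
# Lifting syntomic algebras along `R → R ⧸ I`

The conormal module of a presentation of `A₀` is projective; the corresponding idempotent matrix is
lifted to an étale neighbourhood of `Spec A₀` in affine space over `R`, and cuts out the lift there.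
-/

set_option autoImplicit false
set_option linter.style.haveILetI false

universe u

open MvPolynomial

namespace Groth.Agent.SmoothingLib.SyntomicLift

/-- A projective conormal module gives an idempotent matrix of relations between the generators. -/
theorem exists_frame {S : Type u} [CommRing S] (J : Ideal S) {m : ℕ} (f : Fin m → S)
    (hf : J = Ideal.span (Set.range f)) [Module.Projective (S ⧸ J) J.Cotangent] :
    ∃ F : Matrix (Fin m) (Fin m) S, (∀ i j, (F * F - F) i j ∈ J) ∧
      (∀ j, f j - ∑ i, F i j * f i ∈ J * J) ∧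
      ∀ q : Ideal S, J ≤ q → ∀ b : Fin m → S, ∑ i, b i * f i ∈ q * J →
        ∀ i, ∑ k, F i k * b k ∈ q := by
  classical
  have hfJ : ∀ i, f i ∈ J := fun i => hf ▸ Ideal.subset_span ⟨i, rfl⟩
  let cf : Fin m → J.Cotangent := fun i => J.toCotangent ⟨f i, hfJ i⟩
  let πM : (Fin m → S ⧸ J) →ₗ[S ⧸ J] J.Cotangent := Fintype.linearCombination (S ⧸ J) cf
  have hπM : ∀ b : Fin m → S, πM (fun i => Ideal.Quotient.mk J (b i)) =
      J.toCotangent ⟨∑ i, b i * f i, J.sum_mem fun i _ => J.mul_mem_left _ (hfJ i)⟩ := by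
    intro b
    have : (⟨∑ i, b i * f i, J.sum_mem fun i _ => J.mul_mem_left _ (hfJ i)⟩ : J) =
        ∑ i, b i • (⟨f i, hfJ i⟩ : J) := Subtype.ext (by simp)
    rw [this, map_sum]
    simp only [πM, Fintype.linearCombination_apply, map_smul]
    exact Finset.sum_congr rfl fun i _ => rfl
  have hsurj : Function.Surjective πM := fun y => by
    obtain ⟨⟨x, hx⟩, rfl⟩ := J.toCotangent_surjective y
    obtain ⟨b, hb⟩ := Ideal.mem_span_range_iff_exists_fun.1 (hf ▸ hx : x ∈ Ideal.span (Set.range f))
    exact ⟨_, (hπM b).trans (congrArg _ (Subtype.ext hb))⟩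
  obtain ⟨s, hs⟩ := Module.projective_lifting_property πM LinearMap.id hsurj
  choose F hF using fun i j => Ideal.Quotient.mk_surjective (s (cf j) i)
  have hlin : ∀ (v : Fin m → S ⧸ J) (i), s (πM v) i = ∑ k, Ideal.Quotient.mk J (F i k) * v k := by
    intro v i
    simp only [πM, Fintype.linearCombination_apply, map_sum, map_smul, Finset.sum_apply, Pi.smul_apply,
      smul_eq_mul, hF]
    exact Finset.sum_congr rfl fun k _ => mul_comm _ _
  have hπs : ∀ y, πM (s y) = y := fun y => LinearMap.congr_fun hs y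
  refine ⟨Matrix.of F, fun i j => ?_, fun j => ?_, fun q hJq b hb i => ?_⟩
  · rw [← Ideal.Quotient.eq_zero_iff_mem]
    simp only [Matrix.sub_apply, Matrix.mul_apply, Matrix.of_apply, map_sub, map_sum, map_mul, sub_eq_zero]
    have h := hlin (s (cf j)) i
    rw [hπs] at h
    rw [hF i j]
    refine Eq.trans (Finset.sum_congr rfl fun k _ => ?_) h.symm
    rw [hF k j]
  · have h : πM (fun i => Ideal.Quotient.mk J (F i j)) = cf j := by
      rw [show (fun i => Ideal.Quotient.mk J (F i j)) = s (cf j) from funext fun i => hF i j, hπs]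
    rw [hπM] at h
    have h2 := J.toCotangent_eq.1 h
    rw [pow_two] at h2
    simpa [Matrix.of_apply] using (J * J).neg_mem h2
  · have key : ∀ x ∈ q * J, ∀ (hx : x ∈ J) (i : Fin m),
        s (J.toCotangent ⟨x, hx⟩) i ∈ q.map (Ideal.Quotient.mk J) := by
      intro x hx
      induction hx using Submodule.mul_induction_on' with
      | mem_mul_mem a ha y hy =>
        intro _ i
        rw [show (⟨a * y, _⟩ : J) = a • ⟨y, hy⟩ from rfl, map_smul,
          show a • J.toCotangent ⟨y, hy⟩ = Ideal.Quotient.mk J a • J.toCotangent ⟨y, hy⟩ from rfl,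
          map_smul, Pi.smul_apply, smul_eq_mul]
        exact Ideal.mul_mem_right _ _ (Ideal.mem_map_of_mem _ ha)
      | add x hx y hy ihx ihy =>
        intro _ i
        have hxJ : x ∈ J := Ideal.mul_le_right hx
        have hyJ : y ∈ J := Ideal.mul_le_right hy
        rw [show (⟨x + y, _⟩ : J) = ⟨x, hxJ⟩ + ⟨y, hyJ⟩ from rfl, map_add, map_add, Pi.add_apply]
        exact Ideal.add_mem _ (ihx hxJ i) (ihy hyJ i)
    have h := key _ hb (J.sum_mem fun i _ => J.mul_mem_left _ (hfJ i)) i
    rw [← hπM b, hlin] at h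
    have h' : Ideal.Quotient.mk J (∑ k, F i k * b k) ∈ q.map (Ideal.Quotient.mk J) := by
      simpa [map_sum] using h
    rw [Ideal.mem_quotient_iff_mem hJq] at h'
    simpa [Matrix.of_apply] using h'

/-- Colon ideals commute with flat base change. -/
theorem colon_map_eq_top {P C : Type u} [CommRing P] [CommRing C] [Algebra P C] [Module.Flat P C]
    (K : Ideal P) (w : P) (hw : algebraMap P C w ∈ K.map (algebraMap P C)) :
    ∃ D : Ideal P, (∀ d ∈ D, d * w ∈ K) ∧ D.map (algebraMap P C) = ⊤ := by
  classical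
  refine ⟨Submodule.comap (LinearMap.mulRight P w) K, fun d hd => hd, ?_⟩
  rw [Ideal.map, Submodule.mem_span_set'] at hw
  obtain ⟨l, c, g, hx⟩ := hw
  choose a ha hag using fun i => (g i).2
  let F : Option (Fin l) → P := fun o => o.elim w (fun i => -a i)
  let X : Option (Fin l) → C := fun o => o.elim 1 c
  have hrel : ∑ o, F o • X o = 0 := by
    rw [Fintype.sum_option]
    simp only [F, X, Option.elim_none, Option.elim_some, neg_smul, Finset.sum_neg_distrib,
      Algebra.smul_def, mul_one, ← hx, smul_eq_mul, map_neg, neg_mul, Finset.sum_neg_distrib]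
    rw [add_neg_eq_zero]
    exact Finset.sum_congr rfl fun i _ => by rw [hag, mul_comm]; rfl
  obtain ⟨k, b, t, ht, hb⟩ := Module.Flat.isTrivialRelation_of_sum_smul_eq_zero (R := P) (M := C) (f := F) (x := X) hrel
  rw [Ideal.eq_top_iff_one]
  have h1 : (1 : C) = ∑ j, algebraMap P C (b none j) * t j := by
    simpa [X, Algebra.smul_def] using ht none
  rw [h1]
  refine Ideal.sum_mem _ fun j _ => Ideal.mul_mem_right _ _ (Ideal.mem_map_of_mem _ ?_)
  have h2 := hb j
  rw [Fintype.sum_option] at h2
  show b none j * w ∈ K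
  simp only [F, Option.elim_none, Option.elim_some, neg_mul, Finset.sum_neg_distrib, add_neg_eq_zero] at h2
  rw [mul_comm, h2]
  exact K.sum_mem fun i _ => K.mul_mem_right _ (ha i)

/-- `ker π' ∩ pC ⊆ pC · ker π' + IC` when the image is flat over `R ⧸ I`. -/
theorem inf_map_le {R C A₀ : Type u} [CommRing R] [CommRing C] [CommRing A₀] [Algebra R C] (I : Ideal R)
    [Algebra (R ⧸ I) A₀] [Module.Flat (R ⧸ I) A₀] (π' : C →+* A₀) (hπ' : Function.Surjective π')
    (hcomm : ∀ c, π' (algebraMap R C c) = algebraMap (R ⧸ I) A₀ (Ideal.Quotient.mk I c)) (p : Ideal R) :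
    RingHom.ker π' ⊓ p.map (algebraMap R C) ≤
      p.map (algebraMap R C) * RingHom.ker π' ⊔ I.map (algebraMap R C) := by
  rintro x ⟨hxJ, hxp⟩
  rw [SetLike.mem_coe, Ideal.map, Submodule.mem_span_set'] at hxp
  obtain ⟨l, m, g, hx⟩ := hxp
  choose a ha hag using fun i => (g i).2
  have hrel : ∑ i, Ideal.Quotient.mk I (a i) • π' (m i) = 0 := by
    have h1 : π' x = 0 := hxJ
    rw [← hx, map_sum] at h1
    rw [← h1]
    exact Finset.sum_congr rfl fun i _ => by
      rw [← hag i, smul_eq_mul, map_mul, hcomm, Algebra.smul_def, mul_comm]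
  obtain ⟨k, b, t, ht, hb⟩ := Module.Flat.isTrivialRelation_of_sum_smul_eq_zero (R := R ⧸ I) (M := A₀)
    (f := fun i => Ideal.Quotient.mk I (a i)) (x := fun i => π' (m i)) hrel
  choose v hv using fun j => hπ' (t j)
  choose b' hb' using fun i j => Ideal.Quotient.mk_surjective (b i j)
  have hi : ∀ i, m i - ∑ j, algebraMap R C (b' i j) * v j ∈ RingHom.ker π' := fun i => by
    show π' _ = 0
    rw [map_sub, map_sum, show π' (m i) = _ from ht i, sub_eq_zero]
    exact Finset.sum_congr rfl fun j _ => by rw [map_mul, hcomm, hv, hb', Algebra.smul_def]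
  have hj : ∀ j, ∑ i, a i * b' i j ∈ I := fun j => by
    rw [← Ideal.Quotient.eq_zero_iff_mem, map_sum]
    simpa [hb'] using hb j
  have hx' : x = (∑ i, algebraMap R C (a i) * (m i - ∑ j, algebraMap R C (b' i j) * v j)) +
      ∑ j, algebraMap R C (∑ i, a i * b' i j) * v j := by
    simp_rw [mul_sub, Finset.sum_sub_distrib, map_sum, map_mul, Finset.sum_mul, Finset.mul_sum, mul_assoc]
    rw [Finset.sum_comm, sub_add_cancel, ← hx]
    exact Finset.sum_congr rfl fun i _ => by rw [← hag i, smul_eq_mul, mul_comm]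
  rw [hx']
  exact Submodule.add_mem_sup
    (Ideal.sum_mem _ fun i _ => Ideal.mul_mem_mul (Ideal.mem_map_of_mem _ (ha i)) (hi i))
    (Ideal.sum_mem _ fun j _ => Ideal.mul_mem_right _ _ (Ideal.mem_map_of_mem _ (hj j)))

set_option maxHeartbeats 1000000 in
theorem exists_syntomic_lift {R A₀ : Type u} [CommRing R] (I : Ideal R) [CommRing A₀]
    [Algebra (R ⧸ I) A₀] (hA : Synt.IsSyntomic (R ⧸ I) A₀) :
    ∃ (A : Type u) (_ : CommRing A) (_ : Algebra R A), Synt.IsSyntomic R A ∧
      Nonempty ((A ⧸ I.map (algebraMap R A)) ≃ₐ[R ⧸ I] A₀) := by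
  classical
  haveI := hA.1
  haveI := hA.2.1
  obtain ⟨-, n, φ, hφ, hKR⟩ := Synt44.isLCI_of_isSyntomic hA
  obtain ⟨m, f, hf⟩ := Submodule.fg_iff_exists_fin_generating_family.1
    (Algebra.FinitePresentation.ker_fG_of_surjective φ hφ)
  have hker : RingHom.ker φ.toRingHom = Ideal.span (Set.range f) := hf.symm
  haveI := QReg.projective_of_isLocallyQuasiRegular (KReg44.isLocallyQuasiRegular_of_isKoszulRegularIdeal hKR)
  obtain ⟨F, hFF, hl, hcompF⟩ := exists_frame (RingHom.ker φ.toRingHom) f hker
  let F₀ : Matrix (Fin m) (Fin m) A₀ := F.map φ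
  have hF₀ : F₀ * F₀ = F₀ := by
    ext i j
    have h : φ ((F * F - F) i j) = 0 := hFF i j
    simpa [F₀, Matrix.mul_apply, sub_eq_zero] using h
  -- lift the presentation
  let mk : MvPolynomial (Fin n) R →+* MvPolynomial (Fin n) (R ⧸ I) :=
    MvPolynomial.map (Ideal.Quotient.mk I)
  have hmk : Function.Surjective mk :=
    MvPolynomial.map_surjective _ Ideal.Quotient.mk_surjective
  let π : MvPolynomial (Fin n) R →+* A₀ := φ.toRingHom.comp mk
  choose g hg using fun j => hmk (f j)
  obtain ⟨C', _, _, _, π', hππ', hπ', hJ', E, hE, hEF⟩ :=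
    IdemLift.exists_nhd π (hφ.comp hmk) F₀ hF₀
  let al : MvPolynomial (Fin n) R →+* C' := algebraMap _ _
  letI : Algebra R C' := (al.comp MvPolynomial.C).toAlgebra
  haveI : IsScalarTower R (MvPolynomial (Fin n) R) C' := IsScalarTower.of_algebraMap_eq fun _ => rfl
  haveI : Algebra.Smooth R (MvPolynomial (Fin n) R) := ⟨inferInstance, inferInstance⟩
  haveI : Algebra.Smooth R C' := Algebra.Smooth.comp R (MvPolynomial (Fin n) R) C'
  let IC : Ideal C' := I.map (algebraMap R C')
  let g' : Fin m → C' := fun i => al (g i)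
  have hπal : ∀ p, π' (al p) = φ (mk p) := fun p => RingHom.congr_fun hππ' p
  have hcomm : ∀ c, π' (algebraMap R C' c) = algebraMap (R ⧸ I) A₀ (Ideal.Quotient.mk I c) := fun c => by
    rw [show algebraMap R C' c = al (MvPolynomial.C c) from rfl, hπal,
      show mk (MvPolynomial.C c) = MvPolynomial.C (Ideal.Quotient.mk I c) from MvPolynomial.map_C _ _,
      ← MvPolynomial.algebraMap_eq, AlgHom.commutes]
  have hfI : ∀ j, φ (f j) = 0 := fun j => by
    have h1 : f j ∈ Ideal.span (Set.range f) := Ideal.subset_span ⟨j, rfl⟩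
    rw [← hker] at h1; exact h1
  have hgJ : ∀ i, g' i ∈ RingHom.ker π' := fun i => by
    show π' (al (g i)) = 0
    rw [hπal, hg, hfI]
  have hIC : ∀ p, mk p = 0 → al p ∈ IC := fun p hp => by
    have hmem : p ∈ RingHom.ker mk := hp
    rw [show RingHom.ker mk = I.map (MvPolynomial.C (σ := Fin n)) by
      rw [MvPolynomial.ker_map, Ideal.mk_ker]] at hmem
    have h := Ideal.mem_map_of_mem al hmem
    rw [Ideal.map_map] at h
    exact h
  have hJle : RingHom.ker π' ≤ Ideal.span (Set.range g') ⊔ IC := by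
    rw [hJ', Ideal.map_le_iff_le_comap]
    intro z hz
    rw [Ideal.mem_comap]
    have hz' : mk z ∈ Ideal.span (Set.range f) := by rw [← hker]; exact hz
    obtain ⟨c, hc⟩ := Ideal.mem_span_range_iff_exists_fun.1 hz'
    choose c' hc' using fun j => hmk (c j)
    have h0 : mk (z - ∑ j, c' j * g j) = 0 := by
      simp [map_sub, map_sum, map_mul, hc', hg, hc]
    show al z ∈ Ideal.span (Set.range g') ⊔ IC
    rw [show al z = (∑ j, al (c' j) * g' j) + al (z - ∑ j, c' j * g j) by simp [g', map_sum]]
    exact Submodule.add_mem_sup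
      (Ideal.sum_mem _ fun j _ => Ideal.mul_mem_left _ _ (Ideal.subset_span ⟨j, rfl⟩)) (hIC _ h0)
  let h : Fin m → C' := fun k => ∑ i, E i k * g' i
  let K : Ideal C' := Ideal.span (Set.range h)
  set K' := K ⊔ IC with hK'
  set J₂ := RingHom.ker π' * Ideal.span (Set.range g')
  have hKJ : K ≤ RingHom.ker π' := Ideal.span_le.2 (by
    rintro _ ⟨k, rfl⟩
    exact Ideal.sum_mem _ fun i _ => Ideal.mul_mem_left _ _ (hgJ i))
  have hEF' : ∀ i j, π' (E i j) = φ (F i j) := fun i j => congrFun (congrFun hEF i) j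
  have hstep : ∀ j, g' j ∈ K' ⊔ J₂ := by
    intro j
    choose p' hp' using fun i => hmk ((if i = j then 1 else 0) - F i j)
    have h1 : ∑ i, al (p' i) * g' i ∈ IC ⊔ J₂ := by
      have h2 : mk (∑ i, p' i * g i) ∈ Ideal.span (Set.range f) * Ideal.span (Set.range f) := by
        rw [← hker]
        simpa [map_sum, hp', hg, sub_mul, Finset.sum_sub_distrib, ite_mul] using hl j
      have h3 : Ideal.span (Set.range f) = (Ideal.span (Set.range g)).map mk := by
        rw [Ideal.map_span, ← Set.range_comp]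
        congr 1
        ext z; simp [hg]
      rw [h3, ← Ideal.map_mul, Ideal.mem_map_iff_of_surjective _ hmk] at h2
      obtain ⟨w, hw, hwe⟩ := h2
      have h4 : al w ∈ J₂ := by
        have h5 := Ideal.mem_map_of_mem al hw
        rw [Ideal.map_mul, Ideal.map_span, ← Set.range_comp] at h5
        exact Ideal.mul_mono_left (Ideal.span_le.2 (by rintro _ ⟨i, rfl⟩; exact hgJ i)) h5
      have h6 := Submodule.add_mem_sup (hIC (∑ i, p' i * g i - w) (by rw [map_sub, hwe, sub_self])) h4
      simpa [g', map_sum] using h6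
    have h7 : ∑ i, ((if i = j then 1 else 0) - E i j - al (p' i)) * g' i ∈ J₂ := by
      refine Ideal.sum_mem _ fun i _ => Ideal.mul_mem_mul ?_ (Ideal.subset_span ⟨i, rfl⟩)
      show π' _ = 0
      rw [map_sub, map_sub, hπal, hp', hEF', map_sub, apply_ite π', apply_ite φ, map_one, map_zero,
        map_one, map_zero, sub_self]
    have h8 : g' j = h j + (∑ i, al (p' i) * g' i +
        ∑ i, ((if i = j then 1 else 0) - E i j - al (p' i)) * g' i) := by
      simp only [sub_mul, ite_mul, one_mul, zero_mul, Finset.sum_sub_distrib, Finset.sum_ite_eq',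
        Finset.mem_univ, if_true, h]
      ring
    rw [h8]
    refine Ideal.add_mem _ (Ideal.mem_sup_left (Ideal.mem_sup_left (Ideal.subset_span ⟨j, rfl⟩)))
      (Ideal.add_mem _ ?_ (Ideal.mem_sup_right h7))
    exact sup_le_sup_right (le_sup_right : IC ≤ K') J₂ h1
  obtain ⟨r, hr, hrK⟩ : ∃ r : C', r - 1 ∈ RingHom.ker π' ∧ ∀ i, r * g' i ∈ K' := by
    let N : Submodule C' (C' ⧸ K') := Submodule.map K'.mkQ (Ideal.span (Set.range g'))
    have hle : N ≤ RingHom.ker π' • N := by
      have h1 : Ideal.span (Set.range g') ≤ K' ⊔ J₂ :=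
        Ideal.span_le.2 (by rintro _ ⟨i, rfl⟩; exact hstep i)
      have h2 := Submodule.map_mono (f := K'.mkQ) h1
      rw [Submodule.map_sup, Submodule.mkQ_map_self, bot_sup_eq,
        show J₂ = RingHom.ker π' • Ideal.span (Set.range g') from rfl, Submodule.map_smul''] at h2
      exact h2
    obtain ⟨r, hr, hr0⟩ := Submodule.exists_sub_one_mem_and_smul_eq_zero_of_fg_of_le_smul
      (RingHom.ker π') N (Submodule.FG.map _ (Submodule.fg_def.2 ⟨_, Set.finite_range _, rfl⟩)) hle
    refine ⟨r, hr, fun i => ?_⟩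
    have h1 := hr0 (K'.mkQ (g' i)) ⟨g' i, Ideal.subset_span ⟨i, rfl⟩, rfl⟩
    rw [← map_smul, Submodule.mkQ_apply, Submodule.Quotient.mk_eq_zero] at h1
    exact h1
  have hrK' : ∀ x ∈ RingHom.ker π', r * x ∈ K' := by
    intro x hx
    obtain ⟨y, hy, z, hz, rfl⟩ := Submodule.mem_sup.1 (hJle hx)
    rw [mul_add]
    refine K'.add_mem ?_ (K'.mul_mem_left _ (Ideal.mem_sup_right hz))
    have hle : Ideal.span (Set.range g') ≤ Submodule.comap (LinearMap.mulLeft C' r) K' :=
      Ideal.span_le.2 (by rintro _ ⟨i, rfl⟩; exact hrK i)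
    exact hle hy
  have hEh : ∀ k, h k = ∑ i, E i k * h i := fun k => by
    calc h k = ∑ i, (E * E) i k * g' i := by rw [hE]
      _ = ∑ i, ∑ p, E i p * E p k * g' i := Finset.sum_congr rfl fun i _ => by
          rw [Matrix.mul_apply, Finset.sum_mul]
      _ = _ := by
          rw [Finset.sum_comm]
          refine Finset.sum_congr rfl fun p _ => ?_
          rw [Finset.mul_sum]
          exact Finset.sum_congr rfl fun i _ => by ring
  -- a relation between the new generators modulo `I` has coefficients in every prime over `ker π'`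
  have hcot : ∀ (Q : Ideal C') [Q.IsPrime], RingHom.ker π' ≤ Q → ∀ a : Fin m → C',
      ∑ k, a k * h k ∈ Q * RingHom.ker π' ⊔ IC → ∀ i, ∑ k, E i k * a k ∈ Q := by
    intro Q _ hJQ a ha
    let b : Fin m → C' := fun i => ∑ k, E i k * a k
    choose b' hb' using fun i => (hφ.comp hmk) (π' (b i))
    have hbb : ∀ i, b i - al (b' i) ∈ RingHom.ker π' := fun i => by
      show π' _ = 0
      rw [map_sub, hπal, show φ (mk (b' i)) = π' (b i) from hb' i, sub_self]
    let JP : Ideal (MvPolynomial (Fin n) R) := RingHom.ker π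
    let IP : Ideal (MvPolynomial (Fin n) R) := I.map MvPolynomial.C
    let qP := Q.comap al
    have hJPq : JP ≤ qP := fun z hz => hJQ (show π' (al z) = 0 by rw [hπal]; exact hz)
    have hQmap : qP.map al = Q := by
      refine le_antisymm Ideal.map_comap_le fun y hy => ?_
      obtain ⟨y', hy'⟩ := (hφ.comp hmk) (π' y)
      have hd : y - al y' ∈ RingHom.ker π' := by
        show π' _ = 0
        rw [map_sub, hπal, show φ (mk y') = π' y from hy', sub_self]
      have hy'q : y' ∈ qP := by
        show al y' ∈ Q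
        simpa using Q.sub_mem hy (hJQ hd)
      rw [← add_sub_cancel (al y') y]
      exact Ideal.add_mem _ (Ideal.mem_map_of_mem _ hy'q) (Ideal.map_mono hJPq (hJ' ▸ hd))
    let w := ∑ i, b' i * g i
    let K₀ := qP * JP ⊔ IP
    have hK₀ : K₀.map al = Q * RingHom.ker π' ⊔ IC := by
      rw [Ideal.map_sup, Ideal.map_mul, hQmap, hJ', Ideal.map_map]
      rfl
    have hw : al w ∈ K₀.map al := by
      rw [hK₀]
      have hsum : ∑ k, a k * h k = ∑ i, b i * g' i := by
        simp only [h, b, Finset.mul_sum, Finset.sum_mul]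
        rw [Finset.sum_comm]
        exact Finset.sum_congr rfl fun i _ => Finset.sum_congr rfl fun k _ => by ring
      have : al w = ∑ k, a k * h k - ∑ i, (b i - al (b' i)) * g' i := by
        rw [hsum, ← Finset.sum_sub_distrib, map_sum]
        exact Finset.sum_congr rfl fun i _ => by simp only [g', map_mul]; ring
      rw [this]
      exact Ideal.sub_mem _ ha (Ideal.mem_sup_left (Ideal.sum_mem _ fun i _ =>
        Ideal.mul_mem_mul (hJQ (hbb i)) (hgJ i)))
    have hwK : w ∈ K₀ := by
      obtain ⟨D, hD, hDtop⟩ := colon_map_eq_top (P := MvPolynomial (Fin n) R) (C := C') K₀ w hw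
      have hDπ : D.map π = ⊤ := by rw [← hππ', ← Ideal.map_map, hDtop, Ideal.map_top]
      have h1 : (1 : MvPolynomial (Fin n) R) ∈ D ⊔ JP := by
        have h2 := Ideal.comap_map_of_surjective π (hφ.comp hmk) D
        rw [hDπ, Ideal.comap_top, ← RingHom.ker_eq_comap_bot] at h2
        rw [← h2]; trivial
      obtain ⟨d, hd, j, hj, hdj⟩ := Submodule.mem_sup.1 h1
      have hwJ : w ∈ JP := Ideal.sum_mem _ fun i _ => Ideal.mul_mem_left _ _ (by
        show φ (mk (g i)) = 0
        rw [hg, hfI])
      rw [← one_mul w, ← hdj, add_mul]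
      exact K₀.add_mem (hD d hd) (Ideal.mem_sup_left (Ideal.mul_mem_mul (hJPq hj) hwJ))
    have hmkw : ∑ i, mk (b' i) * f i ∈ qP.map mk * RingHom.ker φ.toRingHom := by
      have h1 := Ideal.mem_map_of_mem mk hwK
      have hIP : IP.map mk = ⊥ := by
        rw [← le_bot_iff, Ideal.map_le_iff_le_comap, Ideal.map_le_iff_le_comap]
        intro c hc
        show mk (MvPolynomial.C c) = 0
        rw [show mk (MvPolynomial.C c) = MvPolynomial.C (Ideal.Quotient.mk I c) from MvPolynomial.map_C _ _,
          Ideal.Quotient.eq_zero_iff_mem.2 hc, map_zero]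
      rw [Ideal.map_sup, hIP, sup_bot_eq, Ideal.map_mul,
        show JP.map mk = RingHom.ker φ.toRingHom from
          Ideal.map_comap_of_surjective mk hmk (RingHom.ker φ.toRingHom)] at h1
      simpa [w, map_sum, hg] using h1
    have hJq : RingHom.ker φ.toRingHom ≤ qP.map mk := by
      rw [← Ideal.map_comap_of_surjective mk hmk (RingHom.ker φ.toRingHom)]
      exact Ideal.map_mono hJPq
    intro i
    have h2 := hcompF (qP.map mk) hJq _ hmkw i
    have h3 := Ideal.mem_map_of_mem φ.toRingHom h2
    rw [Ideal.map_map, show φ.toRingHom.comp mk = π'.comp al from hππ'.symm, ← Ideal.map_map, hQmap] at h3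
    have h4 : φ.toRingHom (∑ k, F i k * mk (b' k)) = π' (b i) := by
      have hEb : b i = ∑ k, E i k * b k := by
        calc b i = ∑ l, (E * E) i l * a l := by rw [hE]
          _ = ∑ l, ∑ k, E i k * E k l * a l := Finset.sum_congr rfl fun l _ => by
              rw [Matrix.mul_apply, Finset.sum_mul]
          _ = _ := by
              rw [Finset.sum_comm]
              refine Finset.sum_congr rfl fun k _ => ?_
              simp only [b, Finset.mul_sum, mul_assoc]
      rw [hEb, map_sum, map_sum]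
      refine Finset.sum_congr rfl fun k _ => ?_
      rw [map_mul, map_mul, hEF', show π' (b k) = φ (mk (b' k)) from (hb' k).symm]
      rfl
    rw [h4] at h3
    have h5 : b i ∈ (Q.map π').comap π' := h3
    rwa [Ideal.comap_map_of_surjective π' hπ', ← RingHom.ker_eq_comap_bot, sup_eq_left.2 hJQ] at h5
  have hinj : ∀ (Q : Ideal C') [Q.IsPrime], RingHom.ker π' ≤ Q →
      K ⊓ (Q.comap (algebraMap R C')).map (algebraMap R C') ≤ Q * K := by
    intro Q _ hJQ k hk
    obtain ⟨a, rfl⟩ := Ideal.mem_span_range_iff_exists_fun.1 hk.1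
    have hb := hcot Q hJQ a ((inf_map_le I π' hπ' hcomm (Q.comap (algebraMap R C'))).trans
      (sup_le_sup_right (Ideal.mul_mono_left Ideal.map_comap_le) _) ⟨hKJ hk.1, hk.2⟩)
    have : ∑ k, a k * h k = ∑ i, (∑ k, E i k * a k) * h i := by
      simp_rw [Finset.sum_mul]
      rw [Finset.sum_comm]
      refine Finset.sum_congr rfl fun k _ => ?_
      rw [hEh k, Finset.mul_sum]
      exact Finset.sum_congr rfl fun i _ => by ring
    rw [this]
    exact Ideal.sum_mem _ fun i _ => Ideal.mul_mem_mul (hb i) (Ideal.subset_span ⟨i, rfl⟩)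
  -- globalise
  have hKfg : K.FG := Submodule.fg_def.2 ⟨_, Set.finite_range _, rfl⟩
  let mB := Ideal.Quotient.mk K
  let s : Set (C' ⧸ K) := {x | Synt.IsSyntomic R (Localization.Away x)}
  have hcov : Ideal.span s ⊔ (RingHom.ker π').map mB = ⊤ := by
    by_contra hne
    obtain ⟨M, hM, hle⟩ := Ideal.exists_le_maximal _ hne
    haveI := hM.isPrime
    obtain ⟨x, hx, hxs⟩ := exists_syntomic_nhd I hA π' hπ' hcomm K hKfg hKJ r hr hrK' hinj M
      (le_sup_right.trans hle)
    exact hx ((le_sup_left.trans hle) (Ideal.subset_span hxs))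
  obtain ⟨t, ht, j, hj, htj⟩ := Submodule.mem_sup.1 (hcov ▸ (Submodule.mem_top : (1 : C' ⧸ K) ∈ _))
  let πB : C' ⧸ K →+* A₀ := Ideal.Quotient.lift K π' fun x hx => hKJ hx
  have hπBm : ∀ c, πB (mB c) = π' c := fun c => Ideal.Quotient.lift_mk _ _ _
  have hπt : πB t = 1 := by
    obtain ⟨j', hj', rfl⟩ := (Ideal.mem_map_iff_of_surjective mB Ideal.Quotient.mk_surjective).1 hj
    have h1 := congrArg πB htj
    rwa [map_add, map_one, hπBm, show π' j' = 0 from hj', add_zero] at h1
  let v := t * mB r
  have hπv : πB v = 1 := by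
    have hr' : π' (r - 1) = 0 := hr
    rw [map_sub, map_one, sub_eq_zero] at hr'
    rw [map_mul, hπt, hπBm, hr', one_mul]
  let A := Localization.Away v
  have hsyn : Synt.IsSyntomic R A := by
    refine Synt44.isSyntomic_of_span (algebraMap (C' ⧸ K) A '' s) ?_ ?_
    · rw [← Ideal.map_span]
      refine Ideal.eq_top_of_isUnit_mem _ (Ideal.mem_map_of_mem _ ht) ?_
      exact isUnit_of_mul_isUnit_left (show IsUnit (algebraMap (C' ⧸ K) A t * algebraMap (C' ⧸ K) A (mB r)) by
        rw [← map_mul]; exact IsLocalization.Away.algebraMap_isUnit v)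
    · rintro _ ⟨x, hx, rfl⟩
      let T := Localization.Away (algebraMap (C' ⧸ K) A x)
      let W := Localization.Away (algebraMap (C' ⧸ K) (Localization.Away x) v)
      have hW : Synt.IsSyntomic R W :=
        Synt44.isSyntomic_away W (algebraMap (C' ⧸ K) (Localization.Away x) v) hx
      haveI : IsLocalization.Away (v * x) W := IsLocalization.Away.mul (Localization.Away x) W x v
      haveI : IsLocalization.Away (v * x) T := IsLocalization.Away.mul' A T v x
      exact Synt44.isSyntomic_of_equiv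
        ((IsLocalization.algEquiv (Submonoid.powers (v * x)) W T).restrictScalars R) hW
  -- the comparison with `A₀`
  let πA : A →+* A₀ := IsLocalization.Away.lift v (by rw [hπv]; exact isUnit_one)
  have hπA : ∀ c, πA (algebraMap (C' ⧸ K) A c) = πB c := fun c => IsLocalization.Away.lift_eq v _ c
  let IA : Ideal A := I.map (algebraMap R A)
  have hπR : ∀ c : R, πA (algebraMap R A c) = algebraMap (R ⧸ I) A₀ (Ideal.Quotient.mk I c) := by
    intro c
    rw [IsScalarTower.algebraMap_apply R (C' ⧸ K) A, hπA, ← hcomm c]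
    exact hπBm _
  have hsurj : Function.Surjective πA := fun y => by
    obtain ⟨c, rfl⟩ := hπ' y
    exact ⟨algebraMap (C' ⧸ K) A (mB c), (hπA _).trans (hπBm c)⟩
  have hkerA : RingHom.ker πA = IA := by
    refine le_antisymm (fun y hy => ?_) (Ideal.map_le_iff_le_comap.2 fun c hc => ?_)
    · obtain ⟨⟨c, ⟨_, e, rfl⟩⟩, hc⟩ := IsLocalization.surj (Submonoid.powers v) y
      obtain ⟨c, rfl⟩ := Ideal.Quotient.mk_surjective c
      have hcJ : c ∈ RingHom.ker π' := by
        show π' c = 0
        rw [← hπBm, ← hπA, show algebraMap _ A (mB c) = y * algebraMap (C' ⧸ K) A (v ^ e) from hc.symm,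
          map_mul, show πA y = 0 from hy, zero_mul]
      have h1 : algebraMap (C' ⧸ K) A (mB (r * c)) ∈ IA := by
        have h2 : mB (r * c) ∈ I.map (algebraMap R (C' ⧸ K)) := by
          have h3 := Ideal.mem_map_of_mem mB (hrK' c hcJ)
          rw [hK', Ideal.map_sup, Ideal.map_quotient_self, bot_sup_eq, Ideal.map_map] at h3
          exact h3
        have h4 := Ideal.mem_map_of_mem (algebraMap (C' ⧸ K) A) h2
        rwa [Ideal.map_map, ← IsScalarTower.algebraMap_eq] at h4
      have hu : IsUnit (algebraMap (C' ⧸ K) A (v ^ (e + 1))) := by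
        rw [map_pow]; exact (IsLocalization.Away.algebraMap_isUnit v).pow _
      refine (Ideal.unit_mul_mem_iff_mem IA hu).1 ?_
      have h5 : algebraMap (C' ⧸ K) A (v ^ (e + 1)) * y =
          algebraMap (C' ⧸ K) A t * algebraMap (C' ⧸ K) A (mB (r * c)) := by
        rw [pow_succ', map_mul, mul_assoc, mul_comm (algebraMap _ A (v ^ e)),
          show y * algebraMap (C' ⧸ K) A (v ^ e) = algebraMap _ A (mB c) from hc]
        simp only [v, map_mul]
        ring
      rw [h5]
      exact IA.mul_mem_left _ h1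
    · show πA (algebraMap R A c) = 0
      rw [hπR, Ideal.Quotient.eq_zero_iff_mem.2 hc, map_zero]
  let e₁ : A ⧸ IA ≃+* A₀ :=
    (Ideal.quotEquivOfEq hkerA.symm).trans (RingHom.quotientKerEquivOfSurjective hsurj)
  refine ⟨A, inferInstance, inferInstance, hsyn, ⟨AlgEquiv.ofRingEquiv (f := e₁) ?_⟩⟩
  intro c
  obtain ⟨c, rfl⟩ := Ideal.Quotient.mk_surjective c
  exact hπR c

end Groth.Agent.SmoothingLib.SyntomicLift
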