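import Groth.Agent.SmoothingLib.SyntomicLift.Local
import Groth.Agent.Synt44.RelGCINhd
import Groth.Agent.Synt44.CIComplete
import Groth.Agent.RelGCI.Main
import Mathlib.LinearAlgebra.Matrix.Rank

/-!
# A presentation with free conormal module gives a relative global complete intersection
-/

set_option autoImplicit false
set_option linter.style.haveILetI false

universe u

open TensorProduct MvPolynomial IsLocalRing

namespace Groth.Agent.SmoothingLib.SyntomicLift

/-- A family which is independent modulo `m I` is no longer than a generating family of `I`. -/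
theorem le_spanFinrank {S : Type u} [CommRing S] [IsLocalRing S] [IsNoetherianRing S] {c : ℕ}
    (e : Fin c → S) (hind : ∀ u : Fin c → S, ∑ j, u j * e j = 0 → ∀ j, u j ∈ maximalIdeal S) :
    c ≤ (Ideal.span (Set.range e)).spanFinrank := by
  classical
  obtain ⟨s, hs, hsI⟩ := Submodule.FG.exists_span_finset_card_eq_spanFinrank
    (IsNoetherian.noetherian (Ideal.span (Set.range e)))
  rw [← hs, ← Fintype.card_coe]
  let y : s → S := fun x => x
  have hy : Ideal.span (Set.range y) = Ideal.span (Set.range e) := by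
    simpa [y, Subtype.range_coe] using hsI
  choose A hA using fun j => Ideal.mem_span_range_iff_exists_fun.1
    (hy ▸ Ideal.subset_span ⟨j, rfl⟩ : e j ∈ Ideal.span (Set.range y))
  choose B hB using fun x => Ideal.mem_span_range_iff_exists_fun.1
    (hy ▸ Ideal.subset_span ⟨x, rfl⟩ : y x ∈ Ideal.span (Set.range e))
  let MA : Matrix (Fin c) s S := Matrix.of A
  let MB : Matrix s (Fin c) S := Matrix.of B
  have h1 : ∀ i j, (1 - MA * MB : Matrix (Fin c) (Fin c) S) i j ∈ maximalIdeal S := by
    intro i
    refine hind (fun j => (1 - MA * MB : Matrix (Fin c) (Fin c) S) i j) ?_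
    simp only [Matrix.sub_apply, sub_mul, Finset.sum_sub_distrib, Matrix.one_apply, ite_mul, one_mul,
      zero_mul, Finset.sum_ite_eq, Finset.mem_univ, if_true, Matrix.mul_apply, Finset.sum_mul, MA, MB,
      Matrix.of_apply, mul_assoc]
    rw [Finset.sum_comm]
    simp only [← Finset.mul_sum, hB, hA, sub_self]
  have h2 : MA.map (residue S) * MB.map (residue S) = 1 := by
    rw [← Matrix.map_mul]
    ext i j
    have := (residue_eq_zero_iff _).2 (h1 i j)
    rw [Matrix.sub_apply, map_sub, sub_eq_zero] at this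
    rw [Matrix.map_apply, ← this]
    simp [Matrix.one_apply, apply_ite (residue S)]
  have h3 := Matrix.rank_mul_le_left (MA.map (residue S)) (MB.map (residue S))
  rw [h2, Matrix.rank_one, Fintype.card_fin] at h3
  exact h3.trans (Matrix.rank_le_card_width _)

/-- A presentation of a syntomic algebra whose kernel has generators up to squares which are
independent at every point makes it a relative global complete intersection. -/
theorem exists_relGCI_of_presentation {R C : Type u} [CommRing R] [CommRing C] [Algebra R C]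
    (hsyn : Synt.IsSyntomic R C) {N c : ℕ} (ψ : MvPolynomial (Fin N) R →ₐ[R] C)
    (hψ : Function.Surjective ψ) (e : Fin c → MvPolynomial (Fin N) R)
    (heJ : ∀ j, e j ∈ RingHom.ker ψ.toRingHom)
    (hspan : RingHom.ker ψ.toRingHom ≤
      Ideal.span (Set.range e) ⊔ RingHom.ker ψ.toRingHom * RingHom.ker ψ.toRingHom)
    (hind : ∀ (Q : Ideal (MvPolynomial (Fin N) R)) [Q.IsPrime], RingHom.ker ψ.toRingHom ≤ Q →
      ∀ b : Fin c → MvPolynomial (Fin N) R, ∑ j, b j * e j ∈ Q * RingHom.ker ψ.toRingHom ⊔
          (Q.comap (algebraMap R _)).map (algebraMap R _) → ∀ j, b j ∈ Q) :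
    ∃ (n' c' : ℕ) (F : Fin c' → MvPolynomial (Fin n') R), Synt.IsRelGCI R n' c' F ∧
      Nonempty (Synt.RelGCIRing R n' c' F ≃ₐ[R] C) := by
  classical
  haveI := hsyn.2.1
  let P := MvPolynomial (Fin N) R
  let J : Ideal P := RingHom.ker ψ.toRingHom
  have heJ' : Ideal.span (Set.range e) ≤ J := Ideal.span_le.2 (by rintro _ ⟨j, rfl⟩; exact heJ j)
  by_cases hC : Subsingleton C
  · let F : Fin 1 → MvPolynomial (Fin 1) R := fun _ => 1
    have hsub : Subsingleton (Synt.RelGCIRing R 1 1 F) :=
      Ideal.Quotient.subsingleton_iff.2 ((Ideal.eq_top_iff_one _).2 (Ideal.subset_span ⟨0, rfl⟩))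
    refine ⟨1, 1, F, fun p hnt => ?_, ?_⟩
    · exfalso
      haveI : Subsingleton (p.asIdeal.Fiber (Synt.RelGCIRing R 1 1 F)) :=
        subsingleton_of_zero_eq_one (by
          rw [Algebra.TensorProduct.one_def, Subsingleton.elim (1 : Synt.RelGCIRing R 1 1 F) 0,
            TensorProduct.tmul_zero])
      exact not_nontrivial _ hnt
    · exact ⟨AlgEquiv.ofBijective (Ideal.Quotient.liftₐ (Ideal.span (Set.range F))
        (aeval fun _ => (0 : C)) fun x _ => Subsingleton.elim _ _)
        ⟨fun a b _ => Subsingleton.elim a b, fun x => ⟨0, Subsingleton.elim _ _⟩⟩⟩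
  haveI : Nontrivial C := not_subsingleton_iff_nontrivial.1 hC
  -- Nakayama
  obtain ⟨g, hg1, hgJ⟩ : ∃ g : P, g - 1 ∈ J ∧ ∀ x ∈ J, g * x ∈ Ideal.span (Set.range e) := by
    have hfg : J.FG := Algebra.FinitePresentation.ker_fG_of_surjective ψ hψ
    let N' : Submodule P (P ⧸ Ideal.span (Set.range e)) := Submodule.map (Ideal.span (Set.range e)).mkQ J
    have hle : N' ≤ J • N' := by
      have h2 := Submodule.map_mono (f := (Ideal.span (Set.range e)).mkQ) hspan
      rw [Submodule.map_sup, Submodule.mkQ_map_self, bot_sup_eq,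
        show RingHom.ker ψ.toRingHom * RingHom.ker ψ.toRingHom = J • J from rfl, Submodule.map_smul''] at h2
      exact h2
    obtain ⟨g, hg, hg0⟩ := Submodule.exists_sub_one_mem_and_smul_eq_zero_of_fg_of_le_smul J N'
      (Submodule.FG.map _ hfg) hle
    refine ⟨g, hg, fun x hx => ?_⟩
    have h1 := hg0 ((Ideal.span (Set.range e)).mkQ x) ⟨x, hx, rfl⟩
    rw [← map_smul, Submodule.mkQ_apply, Submodule.Quotient.mk_eq_zero] at h1
    exact h1
  have hψg : ψ g = 1 := by
    have : ψ (g - 1) = 0 := hg1
    rwa [map_sub, map_one, sub_eq_zero] at this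
  let S := P ⧸ Ideal.span (Set.range e)
  let ψb : S →ₐ[R] C := Ideal.Quotient.liftₐ _ ψ fun x hx => heJ' hx
  have hψb : ∀ x, ψb (Ideal.Quotient.mk _ x) = ψ x := fun x => rfl
  letI : Algebra S C := ψb.toRingHom.toAlgebra
  haveI : IsScalarTower R S C := IsScalarTower.of_algebraMap_eq fun r => (ψb.commutes r).symm
  haveI : IsLocalization.Away (Ideal.Quotient.mk (Ideal.span (Set.range e)) g) C := by
    refine ⟨⟨?_, fun z => ?_, fun {x y} hxy => ?_⟩⟩
    · rintro ⟨_, k, rfl⟩
      show IsUnit (ψb (Ideal.Quotient.mk _ g ^ k))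
      rw [map_pow, hψb, hψg, one_pow]
      exact isUnit_one
    · obtain ⟨x, rfl⟩ := hψ z
      refine ⟨⟨Ideal.Quotient.mk _ x, 1⟩, ?_⟩
      show ψ x * ψb 1 = ψ x
      rw [map_one, mul_one]
    · obtain ⟨x, rfl⟩ := Ideal.Quotient.mk_surjective x
      obtain ⟨y, rfl⟩ := Ideal.Quotient.mk_surjective y
      refine ⟨⟨_, 1, pow_one _⟩, ?_⟩
      show Ideal.Quotient.mk _ g * _ = Ideal.Quotient.mk _ g * _
      rw [← map_mul, ← map_mul, Ideal.Quotient.eq, ← mul_sub]
      refine hgJ _ ?_
      show ψ (x - y) = 0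
      rw [map_sub, sub_eq_zero]
      exact hxy
  let e₀ : Localization.Away (Ideal.Quotient.mk (Ideal.span (Set.range e)) g) ≃ₐ[R] C :=
    (IsLocalization.algEquiv (Submonoid.powers (Ideal.Quotient.mk (Ideal.span (Set.range e)) g)) _ C).restrictScalars R
  -- the local fibre rings
  have key : ∀ (p : Ideal R) [p.IsPrime] (Qf : Ideal (p.Fiber C)) [Qf.IsPrime],
      (c : WithBot ℕ∞) + ringKrullDim (Localization.AtPrime Qf) ≤ (N : WithBot ℕ∞) := by
    intro p _ Qf _
    let q : Ideal C := Qf.comap (Algebra.TensorProduct.includeRight (R := R) (A := p.ResidueField) (B := C)).toRingHom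
    have hqp : q.comap (algebraMap R C) = p := by
      ext x
      show ((1 : p.ResidueField) ⊗ₜ[R] algebraMap R C x : p.Fiber C) ∈ Qf ↔ x ∈ p
      rw [Algebra.algebraMap_eq_smul_one, ← TensorProduct.smul_tmul, ← Algebra.algebraMap_eq_smul_one]
      constructor
      · intro hx
        by_contra hxp
        have hu : IsUnit (algebraMap R p.ResidueField x) := by
          rw [isUnit_iff_ne_zero, Ne, Ideal.algebraMap_residueField_eq_zero]; exact hxp
        exact (inferInstance : Qf.IsPrime).ne_top (Ideal.eq_top_of_isUnit_mem _ hx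
          (hu.map (Algebra.TensorProduct.includeLeftRingHom : p.ResidueField →+* p.Fiber C)))
      · intro hx
        rw [show algebraMap R p.ResidueField x = 0 from Ideal.algebraMap_residueField_eq_zero.2 hx,
          TensorProduct.zero_tmul]
        exact Qf.zero_mem
    let Q : Ideal P := q.comap ψ.toRingHom
    have hJQ : J ≤ Q := fun x hx => by
      show ψ x ∈ q
      rw [show ψ x = 0 from hx]; exact q.zero_mem
    have hQp : Q.comap (algebraMap R P) = p := by
      rw [Ideal.comap_comap, show ψ.toRingHom.comp (algebraMap R P) = algebraMap R C from ψ.comp_algebraMap, hqp]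
    -- the regular fibre ring of the polynomial algebra
    let alQ := algebraMap P (Localization.AtPrime Q)
    let Pb : Ideal (Localization.AtPrime Q) :=
      (Q.comap (algebraMap R P)).map (algebraMap R (Localization.AtPrime Q))
    have hPmap : (p.map (algebraMap R P)).map alQ = Pb := by
      show _ = (Q.comap (algebraMap R P)).map _
      rw [hQp, Ideal.map_map, ← IsScalarTower.algebraMap_eq]
    haveI : Algebra.Smooth R P := ⟨inferInstance, inferInstance⟩
    haveI : IsRegularLocalRing (EGA4.FibLocRing R P Q) :=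
      EGA4Lib.isRegularLocalRing_fibLocRing R ((Omega.GeomRegular.smooth_iff R P).1 inferInstance).2 Q
    let θ : P →+* EGA4.FibLocRing R P Q := (Ideal.Quotient.mk _).comp alQ
    let Jb : Ideal (EGA4.FibLocRing R P Q) := J.map θ
    obtain ⟨eC⟩ : Nonempty ((EGA4.FibLocRing R P Q ⧸ Jb) ≃+* EGA4.FibLocRing R C q) := by
      obtain ⟨e1⟩ := nonempty_quot_equiv ψ.toRingHom hψ (p.map (algebraMap R P)) q Q rfl
      have hJb : Jb = (J.map alQ).map (Ideal.Quotient.mk Pb) := (Ideal.map_map _ _).symm
      refine ⟨(Ideal.quotEquivOfEq hJb).trans ((DoubleQuot.quotQuotEquivQuotSup Pb _).trans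
        ((Ideal.quotEquivOfEq ?_).trans (e1.trans (Ideal.quotEquivOfEq ?_))))⟩
      · rw [← hPmap, ← Ideal.map_sup]
      · rw [IsScalarTower.algebraMap_eq R C (Localization.AtPrime q), ← Ideal.map_map, hqp]
        congr 1
        rw [Ideal.map_map]
        congr 1
        exact ψ.comp_algebraMap
    haveI := isLocalRing_fibLocRing R q
    haveI : IsLocalRing (EGA4.FibLocRing R P Q ⧸ Jb) := eC.symm.isLocalRing
    have hineq := (Synt44.isCompleteIntersection_iff Jb).1
      (CIntCI.isCI_of_ringEquiv eC.symm (isCI_fibLocRing hsyn q))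
    -- the generators are minimal
    have hm : maximalIdeal (EGA4.FibLocRing R P Q) = Q.map θ := by
      rw [show θ = (Ideal.Quotient.mk Pb).comp alQ from rfl, ← Ideal.map_map, Localization.AtPrime.map_eq_maximalIdeal]
      exact (IsLocalRing.map_maximalIdeal_of_surjective _ Ideal.Quotient.mk_surjective).symm
    have hJe : Jb = Ideal.span (Set.range fun j => θ (e j)) := by
      rw [show Set.range (fun j => θ (e j)) = θ '' Set.range e from Set.range_comp θ e, ← Ideal.map_span]
      refine le_antisymm (Ideal.map_le_iff_le_comap.2 fun x hx => ?_) (Ideal.map_mono heJ')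
      rw [Ideal.mem_comap]
      have hgQ : g ∉ Q := fun hgQ => (inferInstance : Q.IsPrime).ne_top
        ((Ideal.eq_top_iff_one Q).2 (by simpa using Q.sub_mem hgQ (hJQ hg1)))
      have hu : IsUnit (θ g) :=
        (IsLocalization.map_units (Localization.AtPrime Q) (⟨g, hgQ⟩ : Q.primeCompl)).map (Ideal.Quotient.mk Pb)
      refine (Ideal.unit_mul_mem_iff_mem _ hu).1 ?_
      rw [← map_mul]
      exact Ideal.mem_map_of_mem θ (hgJ x hx)
    have hc : c ≤ Jb.spanFinrank := by
      rw [hJe]
      refine le_spanFinrank _ fun w hw j => ?_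
      obtain ⟨v, hv⟩ : ∃ v : Fin c → Localization.AtPrime Q, ∀ j, Ideal.Quotient.mk Pb (v j) = w j :=
        ⟨fun j => (Ideal.Quotient.mk_surjective (w j)).choose, fun j => (Ideal.Quotient.mk_surjective (w j)).choose_spec⟩
      obtain ⟨s, hs⟩ := IsLocalization.exist_integer_multiples_of_finite Q.primeCompl v
      choose a ha using hs
      have haw : ∀ j, θ (a j) = θ s * w j := fun j => by
        show Ideal.Quotient.mk Pb (alQ (a j)) = Ideal.Quotient.mk Pb (alQ s) * w j
        rw [← hv, ← map_mul]
        exact congrArg _ ((ha j).trans (Algebra.smul_def _ _))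
      have h0 : θ (∑ j, a j * e j) = 0 := by
        simp only [map_sum, map_mul, haw, mul_assoc, ← Finset.mul_sum, hw, mul_zero]
      have h1 : alQ (∑ j, a j * e j) ∈ (p.map (algebraMap R P)).map alQ := by
        rw [hPmap]; exact Ideal.Quotient.eq_zero_iff_mem.1 h0
      obtain ⟨t, ht, htx⟩ :=
        (IsLocalization.algebraMap_mem_map_algebraMap_iff Q.primeCompl (Localization.AtPrime Q) _ _).1 h1
      have h2 := hind Q hJQ (fun j => t * a j) (by
        rw [hQp]
        refine Submodule.mem_sup_right ?_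
        rw [show (∑ j, t * a j * e j) = t * ∑ j, a j * e j by rw [Finset.mul_sum]; exact Finset.sum_congr rfl fun j _ => mul_assoc _ _ _]
        exact htx) j
      have haQ : a j ∈ Q := ((inferInstance : Q.IsPrime).mem_or_mem h2).resolve_left ht
      have hsu : IsUnit (θ s) :=
        (IsLocalization.map_units (Localization.AtPrime Q) s).map (Ideal.Quotient.mk Pb)
      refine (Ideal.unit_mul_mem_iff_mem _ hsu).1 ?_
      rw [← haw, hm]
      exact Ideal.mem_map_of_mem θ haQ
    -- dimensions
    have hdimO : ringKrullDim (EGA4.FibLocRing R P Q) ≤ (N : WithBot ℕ∞) := by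
      obtain ⟨QP, hQPp, ⟨eP⟩⟩ := EGA4Lib.nonempty_fibLocRing_equiv R Q
      haveI := hQPp
      rw [← ringKrullDim_eq_of_ringEquiv eP, IsLocalization.AtPrime.ringKrullDim_eq_height QP (Localization.AtPrime QP)]
      refine Ideal.height_le_ringKrullDim_of_ne_top hQPp.ne_top |>.trans ?_
      rw [ringKrullDim_eq_of_ringEquiv (MvPolynomial.algebraTensorAlgEquiv
        (R := R) (A := (Q.comap (algebraMap R P)).ResidueField) (σ := Fin N)).toRingEquiv,
        MvPolynomial.ringKrullDim_of_isNoetherianRing, ringKrullDim_eq_zero_of_field]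
      simp
    obtain ⟨ef⟩ := nonempty_fibLocRing_equiv' p Qf q rfl hqp
    rw [ringKrullDim_eq_of_ringEquiv ef, ← ringKrullDim_eq_of_ringEquiv (R := EGA4.FibLocRing R P Q ⧸ Jb) (S := EGA4.FibLocRing R C q) eC]
    refine le_trans (add_le_add ?_ le_rfl) (hineq.trans hdimO)
    exact_mod_cast hc
  -- assemble
  have hcN : c ≤ N := by
    obtain ⟨M, hM⟩ := Ideal.exists_maximal C
    haveI := hM.isPrime
    obtain ⟨Qf, hQf, -⟩ := EGA4Lib.exists_fiber_prime R M
    haveI := hQf
    have h := key (M.comap (algebraMap R C)) Qf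
    have h0 : (0 : WithBot ℕ∞) ≤ ringKrullDim (Localization.AtPrime Qf) := ringKrullDim_nonneg_of_nontrivial
    have := (le_add_of_nonneg_right h0).trans h
    exact_mod_cast this
  refine ⟨N + 1, c + 1, _, Synt44.isRelGCI_of_away_le hcN e g fun p _ => ?_,
    ⟨(Synt44.nonempty_snocEquiv e g).some.symm.trans e₀⟩⟩
  rw [← ringKrullDim_eq_of_ringEquiv (IsLocalization.Away.tensorProductEquivTMulRight R p.ResidueField
    (Ideal.Quotient.mk (Ideal.span (Set.range e)) g) C).toRingEquiv, ringKrullDim_le_iff_height_le]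
  intro Qf hQf
  have h := key p Qf
  rw [IsLocalization.AtPrime.ringKrullDim_eq_height Qf (Localization.AtPrime Qf)] at h
  have h' : (c : ℕ∞) + Qf.height ≤ N := by exact_mod_cast h
  obtain ⟨k, hk⟩ : ∃ k : ℕ, Qf.height = (k : ℕ∞) := by
    refine ⟨Qf.height.toNat, (ENat.coe_toNat ?_).symm⟩
    intro htop
    rw [htop] at h'
    simp at h'
  rw [hk] at h' ⊢
  have hk' : c + k ≤ N := by exact_mod_cast h'
  show ((k : ℕ∞) : WithBot ℕ∞) ≤ (((N - c : ℕ) : ℕ∞) : WithBot ℕ∞)
  exact WithBot.coe_le_coe.2 (by exact_mod_cast Nat.le_sub_of_add_le (by omega : k + c ≤ N))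

end Groth.Agent.SmoothingLib.SyntomicLift
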