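import Groth.Agent.SmoothingLib.SyntomicLift.Main
import Groth.Agent.SmoothingLib.SyntomicLift.Presentation
import Groth.Agent.CIntCI.Syntomic
import Groth.Agent.GrpScheme.Syntomic.Algebra
import Mathlib.Tactic.NoncommRing

/-!
# The symmetric algebra of the conormal module of a syntomic algebra

It is smooth over the algebra, retracts onto it, and is a relative global complete intersection over
the base.
-/

set_option autoImplicit false
set_option linter.style.haveILetI false

universe u

open MvPolynomial AlgebraicGeometry CategoryTheory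

namespace Groth.Agent.SmoothingLib.SyntomicLift

theorem isSyntomic_of_smooth {A C : Type u} [CommRing A] [CommRing C] [Algebra A C] [Algebra.Smooth A C] :
    Synt.IsSyntomic A C := by
  haveI : Algebra.FinitePresentation A C := Algebra.Smooth.finitePresentation
  refine ⟨((Omega.GeomRegular.smooth_iff A C).1 inferInstance).1, inferInstance, fun p => ?_⟩
  haveI : Algebra.Smooth p.asIdeal.ResidueField (p.asIdeal.Fiber C) :=
    inferInstanceAs (Algebra.Smooth p.asIdeal.ResidueField (TensorProduct A p.asIdeal.ResidueField C))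
  haveI : Algebra.FinitePresentation p.asIdeal.ResidueField (p.asIdeal.Fiber C) := Algebra.Smooth.finitePresentation
  haveI : Algebra.FiniteType p.asIdeal.ResidueField (p.asIdeal.Fiber C) := Algebra.FiniteType.of_finitePresentation
  exact GrpScheme.Syntomic.Algebra.isLCIOver p.asIdeal.ResidueField (p.asIdeal.Fiber C)

theorem isSyntomic_trans {R A C : Type u} [CommRing R] [CommRing A] [CommRing C] [Algebra R A]
    [Algebra A C] [Algebra R C] [IsScalarTower R A C] (h₁ : Synt.IsSyntomic R A)
    (h₂ : Synt.IsSyntomic A C) : Synt.IsSyntomic R C := by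
  refine Synt44.syntomicHom_algebraMap.1
    ((HasRingHomProperty.Spec_iff (P := Synt44.syntomicMor.{u}) (φ := CommRingCat.ofHom (algebraMap R C))).1 ?_)
  have hf : Synt.IsSyntomicMor (Spec.map (CommRingCat.ofHom (algebraMap R A))) :=
    (HasRingHomProperty.Spec_iff (P := Synt44.syntomicMor.{u})).2 (Synt44.syntomicHom_algebraMap.2 h₁)
  have hg : Synt.IsSyntomicMor (Spec.map (CommRingCat.ofHom (algebraMap A C))) :=
    (HasRingHomProperty.Spec_iff (P := Synt44.syntomicMor.{u})).2 (Synt44.syntomicHom_algebraMap.2 h₂)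
  have heq : CommRingCat.ofHom (algebraMap R C) =
      CommRingCat.ofHom (algebraMap R A) ≫ CommRingCat.ofHom (algebraMap A C) := by
    rw [← CommRingCat.ofHom_comp, ← IsScalarTower.algebraMap_eq]
  rw [heq, Spec.map_comp]
  exact CIntCI.isSyntomicMor_comp _ _ hg hf

theorem idem_improve_sub {S : Type u} [Ring S] (F : S) :
    3 • (F * F) - 2 • (F * F * F) - F = (F * F - F) * (1 - 2 • F) := by noncomm_ring

theorem idem_improve_sq {S : Type u} [Ring S] (F : S) :
    (3 • (F * F) - 2 • (F * F * F)) * (3 • (F * F) - 2 • (F * F * F)) - (3 • (F * F) - 2 • (F * F * F)) =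
      (F * F - F) * (F * F - F) * (4 • (F * F) - 4 • F - 3 • 1) := by noncomm_ring

section

variable {R S : Type u} [CommRing R] [CommRing S] [Algebra R S] {m : ℕ}

/-- The linear forms cutting out the symmetric algebra of the image of `G`. -/
noncomputable def lin (G : Matrix (Fin m) (Fin m) S) (j : Fin m) : MvPolynomial (Fin m) S :=
  X j - ∑ i, X i * C (G i j)

/-- The substitution `z ↦ z G`. -/
noncomputable def subst (G : Matrix (Fin m) (Fin m) S) : MvPolynomial (Fin m) S →ₐ[S] MvPolynomial (Fin m) S :=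
  aeval fun j => ∑ i, X i * C (G i j)

variable (G : Matrix (Fin m) (Fin m) S)

theorem subst_X (j : Fin m) : subst G (X j) = ∑ i, X i * C (G i j) := aeval_X _ _

theorem subst_C (a : S) : subst G (C a) = C a := (subst G).commutes a

theorem lin_sum (j : Fin m) : ∑ i, lin G i * C (G i j) = - ∑ k, X k * C ((G * G - G) k j) := by
  simp only [lin, sub_mul, Finset.sum_sub_distrib, Matrix.sub_apply, map_sub, mul_sub, neg_sub]
  congr 1
  simp only [Matrix.mul_apply, map_sum, map_mul, Finset.sum_mul, Finset.mul_sum, mul_assoc]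
  rw [Finset.sum_comm]

theorem subst_lin_mem (I : Ideal S) (hG : ∀ i j, (G * G - G) i j ∈ I) (j : Fin m) :
    subst G (lin G j) ∈ I.map (C : S →+* MvPolynomial (Fin m) S) := by
  have : subst G (lin G j) = ∑ i, lin G i * C (G i j) := by
    simp only [lin, map_sub, map_sum, map_mul, subst_X, subst_C, sub_mul, Finset.sum_sub_distrib]
  rw [this, lin_sum]
  exact Ideal.neg_mem_iff _ |>.2 (Ideal.sum_mem _ fun k _ => Ideal.mul_mem_left _ _ (Ideal.mem_map_of_mem _ (hG k j)))

theorem subst_sub_mem (x : MvPolynomial (Fin m) S) : subst G x - x ∈ Ideal.span (Set.range (lin G)) := by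
  induction x using MvPolynomial.induction_on with
  | C a => rw [subst_C, sub_self]; exact zero_mem _
  | add x y hx hy =>
    rw [map_add, show subst G x + subst G y - (x + y) = (subst G x - x) + (subst G y - y) by ring]
    exact Ideal.add_mem _ hx hy
  | mul_X x j hx =>
    rw [map_mul, show subst G x * subst G (X j) - x * X j =
      (subst G x - x) * subst G (X j) + x * (subst G (X j) - X j) by ring]
    refine Ideal.add_mem _ (Ideal.mul_mem_right _ _ hx) (Ideal.mul_mem_left _ _ ?_)
    rw [subst_X, show ∑ i, X i * C (G i j) - X j = - lin G j by rw [lin, neg_sub]]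
    exact Ideal.neg_mem_iff _ |>.2 (Ideal.subset_span ⟨j, rfl⟩)

theorem pderiv_mem (Q J : Ideal (MvPolynomial (Fin m) S)) (hJQ : J ≤ Q) (p : Ideal R)
    (hpQ : p.map (algebraMap R (MvPolynomial (Fin m) S)) ≤ Q) (i : Fin m) {x : MvPolynomial (Fin m) S}
    (hx : x ∈ Q * J ⊔ p.map (algebraMap R (MvPolynomial (Fin m) S))) : pderiv i x ∈ Q := by
  obtain ⟨y, hy, z, hz, rfl⟩ := Submodule.mem_sup.1 hx
  clear hx
  rw [map_add]
  refine Q.add_mem ?_ ?_
  · clear hz
    induction hy using Submodule.mul_induction_on' with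
    | mem_mul_mem a ha c hc =>
      rw [Derivation.leibniz, smul_eq_mul, smul_eq_mul]
      exact Q.add_mem (Q.mul_mem_right _ ha) (Q.mul_mem_right _ (hJQ hc))
    | add a _ c _ iha ihc => rw [map_add]; exact Q.add_mem iha ihc
  · rw [Ideal.map] at hz
    clear hy
    induction hz using Submodule.span_induction with
    | mem w hw =>
      obtain ⟨r, -, rfl⟩ := hw
      rw [IsScalarTower.algebraMap_apply R S (MvPolynomial (Fin m) S), MvPolynomial.algebraMap_eq, pderiv_C]
      exact Q.zero_mem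
    | zero => rw [map_zero]; exact Q.zero_mem
    | add a c _ _ iha ihc => rw [map_add]; exact Q.add_mem iha ihc
    | smul a c hc ihc =>
      rw [smul_eq_mul, Derivation.leibniz, smul_eq_mul, smul_eq_mul]
      exact Q.add_mem (Q.mul_mem_left _ ihc) (Q.mul_mem_right _ (hpQ hc))

theorem pderiv_sum_lin (f : Fin m → S) (b : Fin m → MvPolynomial (Fin m) S) (i : Fin m) :
    pderiv i (∑ j, b j * (C (f j) + lin G j)) =
      (b i - ∑ k, C (G i k) * b k) + ∑ j, (C (f j) + lin G j) * pderiv i (b j) := by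
  simp only [map_sum, Derivation.leibniz, smul_eq_mul, Finset.sum_add_distrib]
  congr 1
  simp only [lin, map_add, map_sub, map_sum, Derivation.leibniz, pderiv_C, pderiv_X, smul_eq_mul,
    mul_zero, zero_add, Pi.single_apply, mul_ite, mul_one, Finset.sum_ite_eq,
    Finset.sum_ite_eq', Finset.mem_univ, if_true, mul_sub, Finset.sum_sub_distrib]
  congr 1
  exact Finset.sum_congr rfl fun j _ => mul_comm _ _

/-- The generators `f + l` are independent at every point of the symmetric algebra. -/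
theorem mem_of_sum_mem {A : Type u} [CommRing A] [Algebra R A] [Module.Flat R A] (φ : S →ₐ[R] A)
    (hφ : Function.Surjective φ) (f : Fin m → S) (hker : RingHom.ker φ.toRingHom = Ideal.span (Set.range f))
    (hGG : ∀ i j, (G * G - G) i j ∈ RingHom.ker φ.toRingHom * RingHom.ker φ.toRingHom)
    (hsyz : ∀ b : Fin m → S, ∑ i, b i * f i = 0 → ∀ i, ∑ k, G i k * b k ∈ RingHom.ker φ.toRingHom)
    (Q : Ideal (MvPolynomial (Fin m) S)) [Q.IsPrime]
    (hJQ : Ideal.span (Set.range (lin G)) ⊔ (RingHom.ker φ.toRingHom).map C ≤ Q)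
    (b : Fin m → MvPolynomial (Fin m) S)
    (hb : ∑ j, b j * (C (f j) + lin G j) ∈ Q * (Ideal.span (Set.range (lin G)) ⊔ (RingHom.ker φ.toRingHom).map C) ⊔
      (Q.comap (algebraMap R (MvPolynomial (Fin m) S))).map (algebraMap R (MvPolynomial (Fin m) S))) :
    ∀ j, b j ∈ Q := by
  classical
  set I := RingHom.ker φ.toRingHom with hI
  set I' : Ideal (MvPolynomial (Fin m) S) := I.map C with hI'def
  set J := Ideal.span (Set.range (lin G)) ⊔ I' with hJdef
  set pP := (Q.comap (algebraMap R (MvPolynomial (Fin m) S))).map (algebraMap R (MvPolynomial (Fin m) S)) with hpP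
  have hpQ : pP ≤ Q := Ideal.map_comap_le
  have hI'J : I' ≤ J := le_sup_right
  have hfI' : ∀ j, C (f j) ∈ I' := fun j => Ideal.mem_map_of_mem _ (hker.symm ▸ Ideal.subset_span ⟨j, rfl⟩)
  have hI'span : I' = Ideal.span (Set.range fun j => (C (f j) : MvPolynomial (Fin m) S)) := by
    rw [hI'def, hker, Ideal.map_span, ← Set.range_comp]
    rfl
  have heJ : ∀ j, C (f j) + lin G j ∈ J := fun j =>
    J.add_mem (hI'J (hfI' j)) (Ideal.mem_sup_left (Ideal.subset_span ⟨j, rfl⟩))
  have hGG' : ∀ i j, (C ((G * G - G) i j) : MvPolynomial (Fin m) S) ∈ I' * I' := fun i j => by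
    rw [hI'def, ← Ideal.map_mul]; exact Ideal.mem_map_of_mem _ (hGG i j)
  have hbd : ∀ i, b i - ∑ k, C (G i k) * b k ∈ Q := by
    intro i
    have h1 := pderiv_mem Q J hJQ _ hpQ i hb
    rw [pderiv_sum_lin] at h1
    simpa using Q.sub_mem h1 (Q.sum_mem fun j (_ : j ∈ Finset.univ) => Q.mul_mem_right (pderiv i (b j)) (hJQ (heJ j)))
  let d : Fin m → MvPolynomial (Fin m) S := fun i => ∑ k, C (G i k) * b k
  have hde : ∑ i, d i * (C (f i) + lin G i) ∈ Q * J ⊔ pP := by
    rw [show ∑ i, d i * (C (f i) + lin G i) = ∑ i, b i * (C (f i) + lin G i) -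
      ∑ i, (b i - d i) * (C (f i) + lin G i) by simp only [sub_mul, Finset.sum_sub_distrib]; ring]
    exact Ideal.sub_mem _ hb (Ideal.mem_sup_left (Ideal.sum_mem _ fun i _ => Ideal.mul_mem_mul (hbd i) (heJ i)))
  have hdl : ∑ i, d i * lin G i ∈ I' * I' := by
    have : ∑ i, d i * lin G i = ∑ k, b k * ∑ i, lin G i * C (G i k) := by
      simp only [d, Finset.sum_mul, Finset.mul_sum]
      rw [Finset.sum_comm]
      exact Finset.sum_congr rfl fun k _ => Finset.sum_congr rfl fun i _ => by ring
    rw [this]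
    refine Ideal.sum_mem _ fun k _ => Ideal.mul_mem_left _ _ ?_
    rw [lin_sum]
    exact (I' * I').neg_mem (Ideal.sum_mem _ fun i _ => Ideal.mul_mem_left _ _ (hGG' i k))
  have hdf : ∑ i, d i * C (f i) ∈ Q * J ⊔ pP := by
    rw [show ∑ i, d i * C (f i) = ∑ i, d i * (C (f i) + lin G i) - ∑ i, d i * lin G i by
      simp only [mul_add, Finset.sum_add_distrib]; ring]
    exact Ideal.sub_mem _ hde (Ideal.mem_sup_left (Ideal.mul_mono (hI'J.trans hJQ) hI'J hdl))
  -- apply the substitution
  have hσJ : J.map (subst G).toRingHom ≤ I' := by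
    rw [hJdef, Ideal.map_sup]
    refine sup_le ?_ ?_
    · rw [Ideal.map_le_iff_le_comap, Ideal.span_le]
      rintro _ ⟨j, rfl⟩
      exact subst_lin_mem G I (fun i j => Ideal.mul_le_right (hGG i j)) j
    · rw [hI'span, Ideal.map_span, Ideal.span_le]
      rintro _ ⟨_, ⟨j, rfl⟩, rfl⟩
      show subst G (C (f j)) ∈ _
      rw [subst_C]
      exact Ideal.subset_span ⟨j, rfl⟩
  have hsub : ∀ y, subst G y - y ∈ Q := fun y => hJQ (Ideal.mem_sup_left (subst_sub_mem G y))
  have hσQ : Q.map (subst G).toRingHom ≤ Q := Ideal.map_le_iff_le_comap.2 fun y hy => by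
    show subst G y ∈ Q
    simpa using Q.add_mem (hsub y) hy
  have hσp : pP.map (subst G).toRingHom ≤ pP := by
    rw [hpP, Ideal.map_map, show (subst G).toRingHom.comp (algebraMap R (MvPolynomial (Fin m) S)) =
      algebraMap R (MvPolynomial (Fin m) S) from ((subst G).restrictScalars R).comp_algebraMap]
  have hdf' : ∑ i, d i * C (f i) ∈ Q * I' ⊔ pP := by
    have h1 := Ideal.mem_map_of_mem (subst G).toRingHom hdf
    rw [Ideal.map_sup, Ideal.map_mul] at h1
    have h2 : subst G (∑ i, d i * C (f i)) ∈ Q * I' ⊔ pP := sup_le_sup (Ideal.mul_mono hσQ hσJ) hσp h1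
    rw [map_sum] at h2
    simp only [map_mul, subst_C] at h2
    rw [show ∑ i, d i * C (f i) = ∑ i, subst G (d i) * C (f i) -
      ∑ i, (subst G (d i) - d i) * C (f i) by simp only [sub_mul, Finset.sum_sub_distrib]; ring]
    exact Ideal.sub_mem _ h2 (Ideal.mem_sup_left
      (Ideal.sum_mem _ fun i _ => Ideal.mul_mem_mul (hsub _) (hfI' i)))
  have hdQ : ∑ i, d i * C (f i) ∈ Q * I' := by
    let mA : MvPolynomial (Fin m) S →ₐ[R] MvPolynomial (Fin m) A := MvPolynomial.mapAlgHom φ
    have hkmA : RingHom.ker mA.toRingHom = I' := MvPolynomial.ker_map φ.toRingHom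
    haveI : Module.Flat R (MvPolynomial (Fin m) A) := Module.Flat.trans R A _
    obtain ⟨y, hy, z, hz, hyz⟩ := Submodule.mem_sup.1 hdf'
    have hzI : z ∈ RingHom.ker mA.toRingHom := by
      rw [hkmA, eq_sub_of_add_eq' hyz]
      exact I'.sub_mem (I'.sum_mem fun i _ => I'.mul_mem_left _ (hfI' i)) (Ideal.mul_le_right hy)
    have h1 := Synt44.mem_map_mul_of_flat mA (MvPolynomial.map_surjective φ.toRingHom hφ) _ hzI hz
    rw [hkmA] at h1
    rw [← hyz]
    exact Ideal.add_mem _ hy (Ideal.mul_mono_left hpQ h1)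
  have hdQ2 : ∑ i, d i * C (f i) ∈
      Q • Submodule.span (MvPolynomial (Fin m) S) (Set.range fun j => (C (f j) : MvPolynomial (Fin m) S)) := by
    rw [hI'span] at hdQ; exact hdQ
  rw [Submodule.mem_ideal_smul_span_iff_exists_sum] at hdQ2
  obtain ⟨a, ha, hsum⟩ := hdQ2
  rw [Finsupp.sum_fintype _ _ (fun i => by simp)] at hsum
  let t : Fin m → MvPolynomial (Fin m) S := fun i => d i - a i
  have ht : ∑ i, t i * C (f i) = 0 := by
    simp only [t, sub_mul, Finset.sum_sub_distrib]
    rw [sub_eq_zero]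
    exact hsum.symm
  intro i
  have hGt : ∑ k, C (G i k) * t k ∈ I' := by
    refine MvPolynomial.mem_map_C_iff.2 fun α => ?_
    rw [MvPolynomial.coeff_sum]
    simp only [MvPolynomial.coeff_C_mul]
    refine hsyz (fun k => MvPolynomial.coeff α (t k)) ?_ i
    have h1 := congrArg (MvPolynomial.coeff α) ht
    rw [MvPolynomial.coeff_sum, MvPolynomial.coeff_zero] at h1
    refine Eq.trans (Finset.sum_congr rfl fun k _ => ?_) h1
    rw [mul_comm (t k), MvPolynomial.coeff_C_mul, mul_comm]
  have hGd : ∑ k, C (G i k) * d k ∈ Q := by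
    rw [show ∑ k, C (G i k) * d k = ∑ k, C (G i k) * t k + ∑ k, C (G i k) * a k by
      simp only [t, mul_sub, Finset.sum_sub_distrib]; ring]
    exact Q.add_mem (hJQ (hI'J hGt)) (Q.sum_mem fun k _ => Q.mul_mem_left _ (ha k))
  have h3 : ∑ k, C (G i k) * d k - d i = ∑ l, C ((G * G - G) i l) * b l := by
    simp only [d, Matrix.sub_apply, map_sub, sub_mul, Finset.sum_sub_distrib]
    congr 1
    simp only [Matrix.mul_apply, map_sum, map_mul, Finset.mul_sum, Finset.sum_mul, mul_assoc]
    rw [Finset.sum_comm]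
  have hdi : d i ∈ Q := by
    rw [← sub_sub_cancel (∑ k, C (G i k) * d k) (d i), h3]
    exact Q.sub_mem hGd (Q.sum_mem fun l _ => Q.mul_mem_right _ (hJQ (hI'J (Ideal.mul_le_right (hGG' i l)))))
  simpa [d] using Q.add_mem (hbd i) hdi

end

/-- The symmetric algebra of the conormal module, presented by linear forms. -/
abbrev linQuot {R S A : Type u} [CommRing R] [CommRing S] [CommRing A] [Algebra R S] [Algebra R A]
    (φ : S →ₐ[R] A) {m : ℕ} (G : Matrix (Fin m) (Fin m) S) : Type u :=
  MvPolynomial (Fin m) A ⧸ (Ideal.span (Set.range (lin G))).map (MvPolynomial.map φ.toRingHom)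

theorem smooth_linQuot {R S A : Type u} [CommRing R] [CommRing S] [CommRing A] [Algebra R S] [Algebra R A]
    (φ : S →ₐ[R] A) (hφ : Function.Surjective φ) {m : ℕ} (G : Matrix (Fin m) (Fin m) S)
    (hG : ∀ i j, (G * G - G) i j ∈ RingHom.ker φ.toRingHom) : Algebra.Smooth A (linQuot φ G) := by
  let mA : MvPolynomial (Fin m) S →+* MvPolynomial (Fin m) A := MvPolynomial.map φ.toRingHom
  have hmA : Function.Surjective mA := MvPolynomial.map_surjective φ.toRingHom hφ
  have hkmA : RingHom.ker mA = (RingHom.ker φ.toRingHom).map C := MvPolynomial.ker_map φ.toRingHom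
  let L : Ideal (MvPolynomial (Fin m) A) := (Ideal.span (Set.range (lin G))).map mA
  let σA : MvPolynomial (Fin m) A →ₐ[A] MvPolynomial (Fin m) A :=
    aeval fun j => mA (∑ i, X i * C (G i j))
  have hσA : ∀ x, σA (mA x) = mA (subst G x) := by
    intro x
    induction x using MvPolynomial.induction_on with
    | C a => rw [subst_C, show mA (C a) = C (φ a) from MvPolynomial.map_C _ _]
             exact σA.commutes _
    | add x y hx hy => simp only [map_add, hx, hy]
    | mul_X x j hx =>
      rw [map_mul (subst G), subst_X, map_mul mA, map_mul σA, hx, map_mul mA,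
        show mA (X j) = X j from MvPolynomial.map_X _ _]
      simp only [σA, aeval_X]
  have hσAL : L ≤ RingHom.ker σA.toRingHom := by
    rw [Ideal.map_le_iff_le_comap, Ideal.span_le]
    rintro _ ⟨j, rfl⟩
    show σA (mA (lin G j)) = 0
    rw [hσA]
    exact (hkmA ▸ subst_lin_mem G _ hG j : subst G (lin G j) ∈ RingHom.ker mA)
  let sA : (MvPolynomial (Fin m) A ⧸ L) →ₐ[A] MvPolynomial (Fin m) A :=
    Ideal.Quotient.liftₐ L σA fun x hx => hσAL hx
  have hsA : ∀ x, Ideal.Quotient.mk L (sA x) = x := by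
    intro x
    obtain ⟨y, rfl⟩ := Ideal.Quotient.mk_surjective x
    obtain ⟨z, rfl⟩ := hmA y
    show Ideal.Quotient.mk L (σA (mA z)) = Ideal.Quotient.mk L (mA z)
    rw [hσA, Ideal.Quotient.eq, ← map_sub]
    exact Ideal.mem_map_of_mem _ (subst_sub_mem G z)
  refine ⟨Algebra.FormallySmooth.of_comp_surjective fun Q _ _ K hK g => ?_,
    Algebra.FinitePresentation.quotient (Ideal.FG.map (Submodule.fg_span (Set.finite_range (lin G))) mA)⟩
  obtain ⟨g', hg'⟩ := Algebra.FormallySmooth.comp_surjective A (MvPolynomial (Fin m) A) K hK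
    (g.comp (Ideal.Quotient.mkₐ A L))
  refine ⟨g'.comp sA, AlgHom.ext fun x => ?_⟩
  show Ideal.Quotient.mkₐ A K (g' (sA x)) = g x
  exact (AlgHom.congr_fun hg' (sA x)).trans (congrArg g (hsA x))

theorem exists_smooth_retract_relGCI {R A : Type u} [CommRing R] [CommRing A] [Algebra R A]
    (hA : Synt.IsSyntomic R A) :
    ∃ (n c : ℕ) (F : Fin c → MvPolynomial (Fin n) R), Synt.IsRelGCI R n c F ∧
      Module.Flat R (Synt.RelGCIRing R n c F) ∧
      ∃ (_ : Algebra A (Synt.RelGCIRing R n c F)) (_ : IsScalarTower R A (Synt.RelGCIRing R n c F)),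
        Algebra.Smooth A (Synt.RelGCIRing R n c F) ∧
        ∃ ρ : Synt.RelGCIRing R n c F →ₐ[R] A, ∀ a : A, ρ (algebraMap A (Synt.RelGCIRing R n c F) a) = a := by
  classical
  haveI := hA.1
  haveI := hA.2.1
  obtain ⟨-, n, φ, hφ, hKR⟩ := Synt44.isLCI_of_isSyntomic hA
  obtain ⟨m, f, hf⟩ := Submodule.fg_iff_exists_fin_generating_family.1
    (Algebra.FinitePresentation.ker_fG_of_surjective φ hφ)
  let P₀ := MvPolynomial (Fin n) R
  let I : Ideal P₀ := RingHom.ker φ.toRingHom
  have hker : I = Ideal.span (Set.range f) := hf.symm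
  have hfI : ∀ j, f j ∈ I := fun j => hker ▸ Ideal.subset_span ⟨j, rfl⟩
  haveI := QReg.projective_of_isLocallyQuasiRegular (KReg44.isLocallyQuasiRegular_of_isKoszulRegularIdeal hKR)
  obtain ⟨F, hFF, hl, hcompF⟩ := exists_frame I f hker
  -- make the matrix idempotent modulo squares
  let G : Matrix (Fin m) (Fin m) P₀ := 3 • (F * F) - 2 • (F * F * F)
  have hGF : ∀ i j, G i j - F i j ∈ I := fun i j => by
    rw [← Matrix.sub_apply, show G - F = (F * F - F) * (1 - 2 • F) from idem_improve_sub F, Matrix.mul_apply]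
    exact I.sum_mem fun k _ => I.mul_mem_right _ (hFF i k)
  have hGG : ∀ i j, (G * G - G) i j ∈ I * I := fun i j => by
    rw [show G * G - G = (F * F - F) * (F * F - F) * (4 • (F * F) - 4 • F - 3 • 1) from idem_improve_sq F,
      Matrix.mul_apply]
    refine Ideal.sum_mem _ fun k _ => Ideal.mul_mem_right _ _ ?_
    rw [Matrix.mul_apply]
    exact Ideal.sum_mem _ fun l _ => Ideal.mul_mem_mul (hFF i l) (hFF l k)
  have hlG : ∀ j, f j - ∑ i, G i j * f i ∈ I * I := fun j => by
    rw [show f j - ∑ i, G i j * f i = (f j - ∑ i, F i j * f i) - ∑ i, (G i j - F i j) * f i by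
      simp only [sub_mul, Finset.sum_sub_distrib]; ring]
    exact Ideal.sub_mem _ (hl j) (Ideal.sum_mem _ fun i _ => Ideal.mul_mem_mul (hGF i j) (hfI i))
  have hsyz : ∀ b : Fin m → P₀, ∑ i, b i * f i = 0 → ∀ i, ∑ k, G i k * b k ∈ I := fun b hb i => by
    rw [show ∑ k, G i k * b k = ∑ k, F i k * b k + ∑ k, (G i k - F i k) * b k by
      simp only [sub_mul, Finset.sum_sub_distrib]; ring]
    exact I.add_mem (hcompF I le_rfl b (hb ▸ zero_mem _) i) (I.sum_mem fun k _ => I.mul_mem_right _ (hGF i k))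
  -- the symmetric algebra
  let C₀ := linQuot φ G
  haveI : Algebra.Smooth A C₀ := smooth_linQuot φ hφ G fun i j => Ideal.mul_le_right (hGG i j)
  have hC₀ : Synt.IsSyntomic R C₀ := isSyntomic_trans hA isSyntomic_of_smooth
  let L : Ideal (MvPolynomial (Fin m) A) := (Ideal.span (Set.range (lin G))).map (MvPolynomial.map φ.toRingHom)
  let ρ₀ : C₀ →ₐ[A] A := Ideal.Quotient.liftₐ L (aeval fun _ => (0 : A)) fun x hx => by
    have : L ≤ RingHom.ker (aeval (R := A) fun _ : Fin m => (0 : A)).toRingHom := by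
      rw [Ideal.map_le_iff_le_comap, Ideal.span_le]
      rintro _ ⟨j, rfl⟩
      show aeval _ (MvPolynomial.map φ.toRingHom (lin G j)) = 0
      simp [lin]
    exact this hx
  let P' := MvPolynomial (Fin m) P₀
  let ψ₀ : P' →ₐ[R] C₀ := (Ideal.Quotient.mkₐ R L).comp (MvPolynomial.mapAlgHom φ)
  have hψ₀ : Function.Surjective ψ₀ :=
    Ideal.Quotient.mk_surjective.comp (MvPolynomial.map_surjective φ.toRingHom hφ)
  let J : Ideal P' := Ideal.span (Set.range (lin G)) ⊔ I.map C
  have hJ : RingHom.ker ψ₀.toRingHom = J := by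
    show RingHom.ker ((Ideal.Quotient.mk L).comp (MvPolynomial.map φ.toRingHom)) = _
    rw [← RingHom.comap_ker, Ideal.mk_ker,
      Ideal.comap_map_of_surjective _ (MvPolynomial.map_surjective φ.toRingHom hφ),
      ← RingHom.ker_eq_comap_bot, MvPolynomial.ker_map]
  -- the generators
  let e : Fin m → P' := fun j => C (f j) + lin G j
  have heJ : ∀ j, e j ∈ J := fun j => J.add_mem (Ideal.mem_sup_right (Ideal.mem_map_of_mem _ (hfI j)))
    (Ideal.mem_sup_left (Ideal.subset_span ⟨j, rfl⟩))
  have hCf : ∀ j, C (f j) ∈ Ideal.span (Set.range e) ⊔ J * J := fun j => by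
    have h1 : (C (f j) : P') = ∑ i, e i * C (G i j) +
        (C (f j - ∑ i, G i j * f i) + ∑ k, X k * C ((G * G - G) k j)) := by
      rw [← neg_eq_iff_eq_neg.2 (lin_sum G j)]
      simp only [e, add_mul, Finset.sum_add_distrib, map_sub, map_sum, map_mul, mul_comm (C (G _ j))]
      ring
    rw [h1]
    refine Submodule.add_mem_sup (Ideal.sum_mem _ fun i _ => Ideal.mul_mem_right _ _ (Ideal.subset_span ⟨i, rfl⟩))
      (Ideal.mul_mono (le_sup_right : I.map C ≤ J) (le_sup_right : I.map C ≤ J) ?_)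
    rw [← Ideal.map_mul]
    exact Ideal.add_mem _ (Ideal.mem_map_of_mem _ (hlG j))
      (Ideal.sum_mem _ fun k _ => Ideal.mul_mem_left _ _ (Ideal.mem_map_of_mem _ (hGG k j)))
  have hspan : J ≤ Ideal.span (Set.range e) ⊔ J * J := by
    refine sup_le (Ideal.span_le.2 ?_) ?_
    · rintro _ ⟨j, rfl⟩
      rw [show lin G j = e j - C (f j) by simp [e]]
      exact Ideal.sub_mem _ (Ideal.mem_sup_left (Ideal.subset_span ⟨j, rfl⟩)) (hCf j)
    · rw [hker, Ideal.map_span, Ideal.span_le]
      rintro _ ⟨_, ⟨j, rfl⟩, rfl⟩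
      exact hCf j
  -- flatten the variables
  let E : MvPolynomial (Fin (m + n)) R ≃ₐ[R] P' :=
    (MvPolynomial.renameEquiv R finSumFinEquiv.symm).trans (MvPolynomial.sumAlgEquiv R (Fin m) (Fin n))
  let ψ : MvPolynomial (Fin (m + n)) R →ₐ[R] C₀ := ψ₀.comp E.toAlgHom
  have hkψ : RingHom.ker ψ.toRingHom = J.comap E.toAlgHom.toRingHom :=
    hJ ▸ (RingHom.comap_ker _ _).symm
  have hEmap : ∀ K : Ideal P', K.comap E.toAlgHom.toRingHom = K.map (E.symm.toAlgHom.toRingHom) := fun K => by
    ext x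
    constructor
    · intro hx
      rw [← E.symm_apply_apply x]
      exact Ideal.mem_map_of_mem E.symm.toAlgHom.toRingHom hx
    · intro hx
      refine (Ideal.map_le_iff_le_comap.2 fun y hy => ?_) hx
      show E (E.symm y) ∈ K
      rwa [E.apply_symm_apply]
  obtain ⟨N, c, F', hF', ⟨eF⟩⟩ := exists_relGCI_of_presentation hC₀ ψ (hψ₀.comp E.surjective)
    (fun j => E.symm (e j)) (fun j => by
      rw [hkψ]
      show E (E.symm (e j)) ∈ J
      rw [E.apply_symm_apply]
      exact heJ j) (by
      rw [hkψ, hEmap, show (fun j => E.symm (e j)) = E.symm ∘ e from rfl, Set.range_comp]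
      refine (Ideal.map_mono hspan).trans (le_of_eq ?_)
      rw [Ideal.map_sup, Ideal.map_mul, Ideal.map_span]
      rfl) (by
      intro Q hQp hJQ b hb j
      let Q' : Ideal P' := Q.comap E.symm.toAlgHom.toRingHom
      haveI : Q'.IsPrime := Ideal.comap_isPrime _ _
      have hQQ : ∀ x, E x ∈ Q' ↔ x ∈ Q := fun x => by
        show E.symm (E x) ∈ Q ↔ _
        rw [E.symm_apply_apply]
      have hEQ : Q.map E.toAlgHom.toRingHom ≤ Q' := Ideal.map_le_iff_le_comap.2 fun x hx => (hQQ x).2 hx
      have hJQ' : J ≤ Q' := fun x hx => hJQ (by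
        rw [hkψ]
        show E (E.symm x) ∈ J
        rwa [E.apply_symm_apply])
      refine (hQQ (b j)).1 (mem_of_sum_mem G φ hφ f hker hGG hsyz Q' hJQ' (fun j => E (b j)) ?_ j)
      have h1 := Ideal.mem_map_of_mem E.toAlgHom.toRingHom hb
      rw [Ideal.map_sup, Ideal.map_mul, Ideal.map_map, hkψ] at h1
      have h2 : E.toAlgHom.toRingHom (∑ j, b j * E.symm (e j)) = ∑ j, E (b j) * e j := by
        show E (∑ j, b j * E.symm (e j)) = _
        simp [map_sum]
      rw [h2] at h1
      refine sup_le_sup (Ideal.mul_mono hEQ Ideal.map_comap_le) (le_of_eq ?_) h1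
      have hp : Q'.comap (algebraMap R P') = Q.comap (algebraMap R _) := by
        rw [Ideal.comap_comap]
        congr 1
        exact E.symm.toAlgHom.comp_algebraMap
      rw [hp]
      congr 1
      exact E.toAlgHom.comp_algebraMap)
  letI algA : Algebra A (Synt.RelGCIRing R N c F') :=
    (eF.symm.toAlgHom.toRingHom.comp (algebraMap A C₀)).toAlgebra
  haveI : IsScalarTower R A (Synt.RelGCIRing R N c F') := IsScalarTower.of_algebraMap_eq fun r => by
    show _ = eF.symm (algebraMap A C₀ (algebraMap R A r))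
    rw [← IsScalarTower.algebraMap_apply R A C₀, eF.symm.commutes]
  let eA : C₀ ≃ₐ[A] Synt.RelGCIRing R N c F' := AlgEquiv.ofRingEquiv (f := eF.symm.toRingEquiv) fun a => rfl
  refine ⟨N, c, F', hF', RelGCI.flat hF', algA, inferInstance, Algebra.Smooth.of_equiv eA,
    (ρ₀.restrictScalars R).comp eF.toAlgHom, fun a => ?_⟩
  show ρ₀ (eF (eF.symm (algebraMap A C₀ a))) = a
  rw [eF.apply_symm_apply, ρ₀.commutes]
  rfl

end Groth.Agent.SmoothingLib.SyntomicLift
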