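import Groth.Prelude.Def_RegImm
import Groth.Prelude.Def_EGA4b
import Groth.Prelude.Def_FlatCA
import Groth.Agent.S9169
import Groth.Agent.S2166
import Groth.Agent.CIntCI.Basic
import Groth.Agent.Synt44.CILocal
import Groth.Agent.EGA4Lib.FibreLoc
import Groth.Agent.Wt.CMSlice
import Groth.Agent.Omega.GeomRegular

/-!
# The local step in lifting syntomic algebras

`C` smooth over `R`, `π' : C → A₀` surjective with `A₀` syntomic over `R ⧸ I`, and an ideal `K ≤ ker π'`
which agrees with `ker π'` modulo `I` near `V(ker π')` and satisfies `K ∩ pC ⊆ Q K`. Then `C ⧸ K` is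
syntomic over `R` near the points of `Spec A₀`.
-/

set_option autoImplicit false
set_option linter.style.haveILetI false

universe u

open TensorProduct RingTheory.Sequence IsLocalRing

namespace Groth.Agent.SmoothingLib.SyntomicLift

theorem nonempty_quot_equiv {C A : Type u} [CommRing C] [CommRing A] (ψ : C →+* A)
    (hψ : Function.Surjective ψ) (I1 : Ideal C) (q : Ideal A) [q.IsPrime] (Q : Ideal C) [Q.IsPrime]
    (hQ : q.comap ψ = Q) :
    Nonempty ((Localization.AtPrime Q ⧸ (I1 ⊔ RingHom.ker ψ).map (algebraMap C (Localization.AtPrime Q))) ≃+*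
      (Localization.AtPrime q ⧸ (I1.map ψ).map (algebraMap A (Localization.AtPrime q)))) := by
  subst hQ
  have hT : (q.comap ψ).primeCompl.map ψ = q.primeCompl := by
    ext y
    constructor
    · rintro ⟨x, hx, rfl⟩; exact hx
    · intro hy
      obtain ⟨x, rfl⟩ := hψ y
      exact ⟨x, hy, rfl⟩
  haveI : IsLocalization ((q.comap ψ).primeCompl.map ψ) (Localization.AtPrime q) := by
    rw [hT]; infer_instance
  let θ : Localization.AtPrime (q.comap ψ) →+* Localization.AtPrime q :=
    IsLocalization.map (S := Localization.AtPrime (q.comap ψ)) (T := (q.comap ψ).primeCompl.map ψ)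
      (Localization.AtPrime q) ψ (q.comap ψ).primeCompl.le_comap_map
  have hθ : Function.Surjective θ :=
    IsLocalization.map_surjective_of_surjective (M := (q.comap ψ).primeCompl)
      (S := Localization.AtPrime (q.comap ψ)) (Q := Localization.AtPrime q) (g := ψ) (h := hψ)
  have hker : RingHom.ker θ = (RingHom.ker ψ).map (algebraMap C _) :=
    IsLocalization.ker_map (Q := Localization.AtPrime q) (S := Localization.AtPrime (q.comap ψ)) (g := ψ) rfl
  let φ := (Ideal.Quotient.mk ((I1.map ψ).map (algebraMap A (Localization.AtPrime q)))).comp θ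
  have hφ : Function.Surjective φ := Ideal.Quotient.mk_surjective.comp hθ
  have hkφ : RingHom.ker φ = (I1 ⊔ RingHom.ker ψ).map (algebraMap C _) := by
    rw [← RingHom.comap_ker, Ideal.mk_ker]
    have hc : (I1.map ψ).map (algebraMap A (Localization.AtPrime q)) =
        (I1.map (algebraMap C (Localization.AtPrime (q.comap ψ)))).map θ := by
      rw [Ideal.map_map, Ideal.map_map, IsLocalization.map_comp]
    rw [hc, Ideal.comap_map_of_surjective θ hθ, ← RingHom.ker_eq_comap_bot, hker, ← Ideal.map_sup]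
  exact ⟨(Ideal.quotEquivOfEq hkφ.symm).trans (RingHom.quotientKerEquivOfSurjective hφ)⟩

theorem nonempty_fibLocRing_equiv' {A B : Type u} [CommRing A] [CommRing B] [Algebra A B] (p : Ideal A)
    [p.IsPrime] (Q : Ideal (p.Fiber B)) [Q.IsPrime] (r : Ideal B) [r.IsPrime]
    (hr : Q.comap (Algebra.TensorProduct.includeRight (R := A) (A := p.ResidueField) (B := B)).toRingHom = r)
    (hp : r.comap (algebraMap A B) = p) :
    Nonempty (Localization.AtPrime Q ≃+* EGA4.FibLocRing A B r) := by
  subst hr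
  have hI : (p.map (algebraMap A B)).map (algebraMap B (Localization.AtPrime (Q.comap
        (Algebra.TensorProduct.includeRight (R := A) (A := p.ResidueField) (B := B))))) =
      ((Q.comap (Algebra.TensorProduct.includeRight (R := A) (A := p.ResidueField) (B := B))).comap
        (algebraMap A B)).map (algebraMap A _) := by
    rw [show (Q.comap (Algebra.TensorProduct.includeRight (R := A) (A := p.ResidueField) (B := B))).comap
        (algebraMap A B) = p from hp, Ideal.map_map, ← IsScalarTower.algebraMap_eq]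
  exact ⟨((Ideal.Fiber.algEquivAux₂ p Q).toRingEquiv).trans (Ideal.quotEquivOfEq hI)⟩

/-- The local fibre rings of a syntomic algebra are complete intersections. -/
theorem isCI_fibLocRing {R A : Type u} [CommRing R] [CommRing A] [Algebra R A]
    (h : Synt.IsSyntomic R A) (q : Ideal A) [q.IsPrime] [IsLocalRing (EGA4.FibLocRing R A q)] :
    Pi1.IsCompleteIntersection (EGA4.FibLocRing R A q) := by
  haveI := h.2.1
  obtain ⟨Q, hQp, ⟨e⟩⟩ := EGA4Lib.nonempty_fibLocRing_equiv R q
  haveI := hQp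
  haveI : Algebra.EssFiniteType ((q.comap (algebraMap R A)).Fiber A) (Localization.AtPrime Q) :=
    Algebra.EssFiniteType.of_isLocalization _ Q.primeCompl
  haveI : Algebra.EssFiniteType (q.comap (algebraMap R A)).ResidueField (Localization.AtPrime Q) :=
    Algebra.EssFiniteType.comp (q.comap (algebraMap R A)).ResidueField
      ((q.comap (algebraMap R A)).Fiber A) _
  exact CIntCI.isCI_of_ringEquiv e
    ((CIntCI.isCI_iff_isCIOver (q.comap (algebraMap R A)).ResidueField _).2
      (Synt44.isCIOver_atPrime (h.2.2 ⟨q.comap (algebraMap R A), inferInstance⟩) Q))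

theorem isLocalRing_fibLocRing (R : Type u) {A : Type u} [CommRing R] [CommRing A] [Algebra R A]
    (q : Ideal A) [q.IsPrime] : IsLocalRing (EGA4.FibLocRing R A q) := by
  obtain ⟨Q, hQp, ⟨e⟩⟩ := EGA4Lib.nonempty_fibLocRing_equiv R q
  exact e.isLocalRing

theorem exists_syntomic_nhd {R C A₀ : Type u} [CommRing R] [CommRing C] [CommRing A₀] [Algebra R C]
    [Algebra.Smooth R C] (I : Ideal R) [Algebra (R ⧸ I) A₀] (h : Synt.IsSyntomic (R ⧸ I) A₀)
    (π' : C →+* A₀) (hπ' : Function.Surjective π')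
    (hcomm : ∀ c, π' (algebraMap R C c) = algebraMap (R ⧸ I) A₀ (Ideal.Quotient.mk I c))
    (K : Ideal C) (hKfg : K.FG) (hKJ : K ≤ RingHom.ker π') (r : C) (hr : r - 1 ∈ RingHom.ker π')
    (hrK : ∀ x ∈ RingHom.ker π', r * x ∈ K ⊔ I.map (algebraMap R C))
    (hinj : ∀ (Q : Ideal C) [Q.IsPrime], RingHom.ker π' ≤ Q →
      K ⊓ (Q.comap (algebraMap R C)).map (algebraMap R C) ≤ Q * K)
    (q : Ideal (C ⧸ K)) [q.IsPrime] (hq : (RingHom.ker π').map (Ideal.Quotient.mk K) ≤ q) :
    ∃ g ∉ q, Synt.IsSyntomic R (Localization.Away g) := by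
  classical
  let Q : Ideal C := q.comap (Ideal.Quotient.mk K)
  have hJQ : RingHom.ker π' ≤ Q := Ideal.map_le_iff_le_comap.1 hq
  have hKQ : K ≤ Q := hKJ.trans hJQ
  let p : Ideal R := Q.comap (algebraMap R C)
  have hICJ : I.map (algebraMap R C) ≤ RingHom.ker π' := Ideal.map_le_iff_le_comap.2 fun c hc => by
    show π' (algebraMap R C c) = 0
    rw [hcomm, Ideal.Quotient.eq_zero_iff_mem.2 hc, map_zero]
  have hIp : I ≤ p := Ideal.map_le_iff_le_comap.1 (hICJ.trans hJQ)
  have hrQ : r ∉ Q := fun hr' => (inferInstance : Q.IsPrime).ne_top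
    ((Ideal.eq_top_iff_one Q).2 (by simpa using Q.sub_mem hr' (hJQ hr)))
  let pC : Ideal C := p.map (algebraMap R C)
  let alQ := algebraMap C (Localization.AtPrime Q)
  -- near `Q` the ideals `K` and `ker π'` agree on the fibre
  have hKJQ : (pC ⊔ K).map alQ = (pC ⊔ RingHom.ker π').map alQ := by
    refine le_antisymm (Ideal.map_mono (sup_le_sup_left hKJ _)) ?_
    rw [Ideal.map_sup, Ideal.map_sup]
    refine sup_le le_sup_left (Ideal.map_le_iff_le_comap.2 fun x hx => ?_)
    rw [Ideal.mem_comap, ← Ideal.map_sup,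
      IsLocalization.algebraMap_mem_map_algebraMap_iff Q.primeCompl (Localization.AtPrime Q)]
    exact ⟨r, hrQ, (sup_le le_sup_right ((Ideal.map_mono hIp).trans le_sup_left) :
      K ⊔ I.map (algebraMap R C) ≤ pC ⊔ K) (hrK x hx)⟩
  -- the fibre ring of `A₀`
  let q₀ : Ideal A₀ := Q.map π'
  haveI : q₀.IsPrime := Ideal.map_isPrime_of_surjective hπ' hJQ
  have hq₀ : q₀.comap π' = Q := by
    rw [Ideal.comap_map_of_surjective π' hπ', ← RingHom.ker_eq_comap_bot, sup_eq_left]
    exact hJQ
  have hcomm' : π'.comp (algebraMap R C) = (algebraMap (R ⧸ I) A₀).comp (Ideal.Quotient.mk I) :=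
    RingHom.ext hcomm
  obtain ⟨e₀⟩ : Nonempty ((Localization.AtPrime Q ⧸ (pC ⊔ RingHom.ker π').map alQ) ≃+*
      EGA4.FibLocRing (R ⧸ I) A₀ q₀) := by
    obtain ⟨e⟩ := nonempty_quot_equiv π' hπ' pC q₀ Q hq₀
    refine ⟨e.trans (Ideal.quotEquivOfEq ?_)⟩
    have hp : p.map (Ideal.Quotient.mk I) = q₀.comap (algebraMap (R ⧸ I) A₀) := by
      rw [← Ideal.map_comap_of_surjective _ Ideal.Quotient.mk_surjective
        (q₀.comap (algebraMap (R ⧸ I) A₀))]
      congr 1
      rw [Ideal.comap_comap, ← hcomm', ← Ideal.comap_comap, hq₀]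
    rw [← hp, IsScalarTower.algebraMap_eq (R ⧸ I) A₀ (Localization.AtPrime q₀), ← Ideal.map_map]
    congr 1
    rw [Ideal.map_map, Ideal.map_map, hcomm']
  haveI := isLocalRing_fibLocRing (R ⧸ I) q₀
  have hCI₀ : Pi1.IsCompleteIntersection (EGA4.FibLocRing (R ⧸ I) A₀ q₀) := isCI_fibLocRing h q₀
  -- the regular fibre ring of `C`
  let P : Ideal (Localization.AtPrime Q) := p.map (algebraMap R (Localization.AtPrime Q))
  have hPmap : pC.map alQ = P := by
    rw [Ideal.map_map, ← IsScalarTower.algebraMap_eq]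
  haveI : IsRegularLocalRing (EGA4.FibLocRing R C Q) :=
    EGA4Lib.isRegularLocalRing_fibLocRing R ((Omega.GeomRegular.smooth_iff R C).1 inferInstance).2 Q
  let θ : C →+* EGA4.FibLocRing R C Q := (Ideal.Quotient.mk _).comp alQ
  let Jb : Ideal (EGA4.FibLocRing R C Q) := (RingHom.ker π').map θ
  have hJb : Jb = ((RingHom.ker π').map alQ).map (Ideal.Quotient.mk P) := (Ideal.map_map _ _).symm
  let e₁ : (EGA4.FibLocRing R C Q ⧸ Jb) ≃+* EGA4.FibLocRing (R ⧸ I) A₀ q₀ :=
    (Ideal.quotEquivOfEq hJb).trans (((DoubleQuot.quotQuotEquivQuotSup P _).trans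
      (Ideal.quotEquivOfEq (by rw [← hPmap, ← Ideal.map_sup]))).trans e₀)
  haveI : IsLocalRing (EGA4.FibLocRing R C Q ⧸ Jb) := e₁.symm.isLocalRing
  have hJbne : Jb ≠ ⊤ := by
    intro htop
    exact not_subsingleton (EGA4.FibLocRing R C Q ⧸ Jb) (Ideal.Quotient.subsingleton_iff.2 htop)
  obtain ⟨ys, hys, hyreg⟩ := (S2166.result Jb hJbne).1 (CIntCI.isCI_of_ringEquiv e₁.symm hCI₀)
  have hθK : K.map θ = Jb := by
    have hP0 : pC.map θ = ⊥ := by
      rw [show θ = (Ideal.Quotient.mk P).comp alQ from rfl, ← Ideal.map_map, hPmap, Ideal.map_quotient_self]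
    calc K.map θ = (pC ⊔ K).map θ := by rw [Ideal.map_sup, hP0, bot_sup_eq]
      _ = ((pC ⊔ K).map alQ).map (Ideal.Quotient.mk P) := (Ideal.map_map _ _).symm
      _ = (pC ⊔ RingHom.ker π').map θ := by rw [hKJQ, Ideal.map_map]
      _ = Jb := by rw [Ideal.map_sup, hP0, bot_sup_eq]
  -- lift the regular sequence to `K`
  have hlift : ∀ y ∈ Jb, ∃ k ∈ K, ∃ w : EGA4.FibLocRing R C Q, IsUnit w ∧ θ k = w * y := by
    intro y hy
    rw [← hθK, show θ = (Ideal.Quotient.mk P).comp alQ from rfl, ← Ideal.map_map,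
      Ideal.mem_map_iff_of_surjective _ Ideal.Quotient.mk_surjective] at hy
    obtain ⟨z, hz, rfl⟩ := hy
    obtain ⟨⟨⟨k, hk⟩, s⟩, hks⟩ := (IsLocalization.mem_map_algebraMap_iff Q.primeCompl (Localization.AtPrime Q)).1 hz
    refine ⟨k, hk, θ s, (IsLocalization.map_units (Localization.AtPrime Q) s).map (Ideal.Quotient.mk P), ?_⟩
    show Ideal.Quotient.mk _ (alQ k) = Ideal.Quotient.mk _ (alQ s) * Ideal.Quotient.mk _ z
    rw [← map_mul, mul_comm, hks]
  obtain ⟨rs, hrsK, hrsspan, hrsreg⟩ : ∃ rs : List C, (∀ x ∈ rs, x ∈ K) ∧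
      Ideal.ofList (rs.map θ) = Jb ∧ IsWeaklyRegular (EGA4.FibLocRing R C Q) (rs.map θ) := by
    have hyJ : ∀ i : Fin ys.length, ys.get i ∈ Jb := fun i => hys ▸ Ideal.subset_span (List.get_mem ys i)
    choose k hk w hw hkw using fun i => hlift _ (hyJ i)
    refine ⟨List.ofFn k, fun x hx => ?_, ?_, ?_⟩
    · obtain ⟨i, rfl⟩ := List.mem_ofFn.1 hx
      exact hk i
    · rw [List.map_ofFn]
      refine le_antisymm (Ideal.span_le.2 fun x hx => ?_) ?_
      · obtain ⟨i, rfl⟩ := List.mem_ofFn.1 hx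
        simp only [Function.comp_apply, hkw, SetLike.mem_coe]
        exact Jb.mul_mem_left _ (hyJ i)
      · rw [← hys]
        refine Ideal.span_le.2 fun x hx => ?_
        obtain ⟨i, rfl⟩ := List.mem_iff_get.1 hx
        obtain ⟨w', hw'⟩ := hw i
        have : ys.get i = ↑w'⁻¹ * θ (k i) := by rw [hkw, ← hw', Units.inv_mul_cancel_left]
        rw [this]
        exact Ideal.mul_mem_left _ _ (Ideal.subset_span (List.mem_ofFn.2 ⟨i, rfl⟩))
    · rw [isWeaklyRegular_iff]
      intro i hi
      simp only [List.length_map, List.length_ofFn] at hi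
      have h1 := hyreg.toIsWeaklyRegular.regular_mod_prev i hi
      have htake : Ideal.ofList (((List.ofFn k).map θ).take i) = Ideal.ofList (ys.take i) := by
        refine le_antisymm (Ideal.span_le.2 fun x hx => ?_) (Ideal.span_le.2 fun x hx => ?_)
        · obtain ⟨j, hj, rfl⟩ := List.mem_iff_getElem.1 hx
          simp only [List.length_take, List.length_map, List.length_ofFn] at hj
          simp only [List.getElem_take, List.getElem_map, List.getElem_ofFn, hkw, SetLike.mem_coe]
          refine Ideal.mul_mem_left _ _ (Ideal.subset_span ?_)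
          exact List.mem_iff_getElem.2 ⟨j, by simp; omega, by simp [List.getElem_take]⟩
        · obtain ⟨j, hj, rfl⟩ := List.mem_iff_getElem.1 hx
          simp only [List.length_take] at hj
          obtain ⟨w', hw'⟩ := hw ⟨j, by omega⟩
          have he : (ys.take i)[j] = ↑w'⁻¹ * θ (k ⟨j, by omega⟩) := by
            rw [hkw, ← hw', Units.inv_mul_cancel_left, List.getElem_take]
            rfl
          rw [he]
          refine Ideal.mul_mem_left _ _ (Ideal.subset_span ?_)
          exact List.mem_iff_getElem.2 ⟨j, by simp; omega, by simp [List.getElem_take]⟩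
      rw [htake]
      simp only [List.getElem_map, List.getElem_ofFn, hkw]
      rw [isSMulRegular_iff_right_eq_zero_of_smul] at h1 ⊢
      intro z hz
      refine h1 z ?_
      obtain ⟨w', hw'⟩ := hw ⟨i, hi⟩
      rw [← hw'] at hz
      calc ys[i] • z = ((↑w'⁻¹ : EGA4.FibLocRing R C Q) * (↑w' * ys.get ⟨i, hi⟩)) • z := by
            rw [Units.inv_mul_cancel_left]; rfl
        _ = (↑w'⁻¹ : EGA4.FibLocRing R C Q) • ((↑w' * ys.get ⟨i, hi⟩) • z) := by
            obtain ⟨z₀, rfl⟩ := Submodule.Quotient.mk_surjective _ z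
            simp only [← Submodule.Quotient.mk_smul, smul_eq_mul, mul_assoc]
        _ = 0 := by rw [hz]; exact smul_zero _
  -- Nakayama: the sequence generates `K` at `Q`
  have hKrs : K.map alQ ≤ (Ideal.ofList rs).map alQ := by
    refine Submodule.le_of_le_smul_of_le_jacobson_bot (hKfg.map alQ)
      (IsLocalRing.maximalIdeal_le_jacobson _) ?_
    rw [Ideal.map_le_iff_le_comap]
    intro k hk
    have h1 : θ k ∈ (Ideal.ofList rs).map θ := by
      rw [Ideal.map_ofList, hrsspan, ← hθK]; exact Ideal.mem_map_of_mem θ hk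
    rw [show θ = (Ideal.Quotient.mk P).comp alQ from rfl, ← Ideal.map_map, RingHom.comp_apply,
      Ideal.mem_quotient_iff_mem_sup, ← hPmap, ← Ideal.map_sup] at h1
    obtain ⟨s, hs, hsk⟩ :=
      (IsLocalization.algebraMap_mem_map_algebraMap_iff Q.primeCompl (Localization.AtPrime Q) _ _).1 h1
    obtain ⟨y, hy, z, hz, hyz⟩ := Submodule.mem_sup.1 hsk
    have hyK : y ∈ K := Ideal.span_le.2 (fun x hx => hrsK x hx) hy
    have hzK : z ∈ Q * K := hinj Q hJQ ⟨by rw [eq_sub_of_add_eq' hyz]; exact K.sub_mem (K.mul_mem_left _ hk) hyK, hz⟩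
    rw [Ideal.mem_comap]
    refine (Ideal.unit_mul_mem_iff_mem _ (IsLocalization.map_units _ (⟨s, hs⟩ : Q.primeCompl))).1 ?_
    show alQ s * alQ k ∈ _
    rw [← map_mul, ← hyz, map_add]
    refine Submodule.add_mem_sup (Ideal.mem_map_of_mem _ hy) ?_
    rw [smul_eq_mul, ← Localization.AtPrime.map_eq_maximalIdeal, ← Ideal.map_mul]
    exact Ideal.mem_map_of_mem _ hzK
  -- flatness
  have hflatC : Module.Flat R C := ((Omega.GeomRegular.smooth_iff R C).1 inferInstance).1
  have hfl : FlatCA.FlatAt R Q C := Module.Flat.of_linearEquiv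
    ((IsLocalizedModule.iso Q.primeCompl (Algebra.linearMap C (Localization.AtPrime Q))).restrictScalars R)
  obtain ⟨U, -, hQU, hU⟩ := Wt.CMSlice.exists_open (R := R) ⟨Q, inferInstance⟩ hfl rs (by
    intro l₁ x l₂ hl m hm
    have h1 := hrsreg.regular_mod_prev l₁.length (by simp [hl])
    rw [isSMulRegular_iff_right_eq_zero_of_smul] at h1
    have ht : Ideal.ofList ((rs.map θ).take l₁.length) = (Ideal.ofList l₁).map θ := by
      rw [Ideal.map_ofList, hl, List.map_append, List.take_left' (by simp)]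
    have hx : (rs.map θ)[l₁.length]'(by simp [hl]) = θ x := by simp [hl]
    have hP0 : pC.map θ = ⊥ := by
      rw [show θ = (Ideal.Quotient.mk P).comp alQ from rfl, ← Ideal.map_map, hPmap, Ideal.map_quotient_self]
    have h2 := Ideal.mem_map_of_mem θ hm
    rw [Ideal.map_sup, hP0, bot_sup_eq, map_mul] at h2
    have h3 : θ m ∈ (Ideal.ofList l₁).map θ := by
      have h4 := h1 (Submodule.Quotient.mk (θ m)) (by
        rw [← Submodule.Quotient.mk_smul, Submodule.Quotient.mk_eq_zero, smul_eq_mul, smul_eq_mul,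
          Ideal.mul_top, ht, hx]
        exact h2)
      rwa [Submodule.Quotient.mk_eq_zero, smul_eq_mul, Ideal.mul_top, ht] at h4
    rw [show θ = (Ideal.Quotient.mk P).comp alQ from rfl, ← Ideal.map_map, RingHom.comp_apply,
      Ideal.mem_quotient_iff_mem_sup, sup_comm, ← hPmap, ← Ideal.map_sup] at h3
    obtain ⟨s, hs, hsm⟩ :=
      (IsLocalization.algebraMap_mem_map_algebraMap_iff Q.primeCompl (Localization.AtPrime Q) _ _).1 h3
    exact ⟨s, hs, hsm⟩)
  have hflQ := (hU _ hQU).1
  have hrsle : Ideal.ofList rs ≤ K := Ideal.span_le.2 fun x hx => hrsK x hx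
  let f : (C ⧸ Ideal.ofList rs) →ₗ[C] Localization.AtPrime q :=
    ((IsScalarTower.toAlgHom C (C ⧸ K) (Localization.AtPrime q)).toLinearMap).comp (Submodule.factor hrsle)
  have hf : ∀ c, f (Submodule.Quotient.mk c) =
      algebraMap (C ⧸ K) (Localization.AtPrime q) (Ideal.Quotient.mk K c) := fun c => rfl
  haveI : IsLocalizedModule Q.primeCompl f := by
    refine ⟨fun s => ?_, fun y => ?_, fun {x₁ x₂} hx => ?_⟩
    · rw [Module.End.isUnit_iff]
      have hu : IsUnit (algebraMap (C ⧸ K) (Localization.AtPrime q) (Ideal.Quotient.mk K s)) :=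
        IsLocalization.map_units _ (⟨Ideal.Quotient.mk K s, s.2⟩ : q.primeCompl)
      have : (fun z : Localization.AtPrime q => (algebraMap C (Module.End C (Localization.AtPrime q)) s) z) =
          fun z => algebraMap (C ⧸ K) (Localization.AtPrime q) (Ideal.Quotient.mk K s) * z := by
        funext z
        show (s : C) • z = _
        rw [Algebra.smul_def, IsScalarTower.algebraMap_apply C (C ⧸ K) (Localization.AtPrime q)]
        rfl
      show Function.Bijective (fun z : Localization.AtPrime q =>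
        (algebraMap C (Module.End C (Localization.AtPrime q)) s) z)
      rw [this]
      exact IsUnit.isUnit_iff_mulLeft_bijective.1 hu
    · obtain ⟨⟨a, s⟩, hs⟩ := IsLocalization.surj q.primeCompl y
      obtain ⟨c, rfl⟩ := Ideal.Quotient.mk_surjective a
      obtain ⟨s', hs'⟩ := Ideal.Quotient.mk_surjective (s : C ⧸ K)
      refine ⟨⟨Submodule.Quotient.mk c, ⟨s', fun hc => s.2 (hs' ▸ hc)⟩⟩, ?_⟩
      rw [hf, ← hs, Submonoid.smul_def, Algebra.smul_def,
        IsScalarTower.algebraMap_apply C (C ⧸ K) (Localization.AtPrime q), Ideal.Quotient.algebraMap_eq, hs',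
        mul_comm]
    · obtain ⟨c₁, rfl⟩ := Submodule.Quotient.mk_surjective _ x₁
      obtain ⟨c₂, rfl⟩ := Submodule.Quotient.mk_surjective _ x₂
      rw [hf, hf] at hx
      obtain ⟨t, ht⟩ := IsLocalization.exists_of_eq (M := q.primeCompl) hx
      obtain ⟨t', ht'⟩ := Ideal.Quotient.mk_surjective (t : C ⧸ K)
      rw [← ht', ← map_mul, ← map_mul, Ideal.Quotient.eq, ← mul_sub] at ht
      obtain ⟨s, hs, hst⟩ := (IsLocalization.algebraMap_mem_map_algebraMap_iff Q.primeCompl
        (Localization.AtPrime Q) _ _).1 (hKrs (Ideal.mem_map_of_mem alQ ht))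
      refine ⟨⟨s * t', Q.primeCompl.mul_mem hs (fun hc => t.2 (ht' ▸ hc))⟩, ?_⟩
      simp only [Submonoid.smul_def, ← Submodule.Quotient.mk_smul, Submodule.Quotient.eq, smul_eq_mul,
        ← mul_sub, mul_assoc]
      exact hst
  have hflatq : Module.Flat R (Localization.AtPrime q) :=
    haveI : Module.Flat R (LocalizedModule Q.primeCompl (C ⧸ Ideal.ofList rs)) := hflQ
    Module.Flat.of_linearEquiv ((IsLocalizedModule.iso Q.primeCompl f).symm.restrictScalars R)
  -- the fibre of `C ⧸ K`
  haveI : Algebra.FinitePresentation R (C ⧸ K) := Algebra.FinitePresentation.quotient hKfg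
  haveI : Algebra.FinitePresentation R (Localization.Away (1 : C ⧸ K)) :=
    haveI : Algebra.FinitePresentation (C ⧸ K) (Localization.Away (1 : C ⧸ K)) :=
      IsLocalization.Away.finitePresentation 1
    Algebra.FinitePresentation.trans R (C ⧸ K) _
  have hqp : q.comap (algebraMap R (C ⧸ K)) = p := rfl
  obtain ⟨eB⟩ : Nonempty ((Localization.AtPrime Q ⧸ (pC ⊔ K).map alQ) ≃+* EGA4.FibLocRing R (C ⧸ K) q) := by
    obtain ⟨e⟩ := nonempty_quot_equiv (Ideal.Quotient.mk K) Ideal.Quotient.mk_surjective pC q Q rfl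
    refine ⟨((Ideal.quotEquivOfEq (by rw [Ideal.mk_ker])).trans e).trans (Ideal.quotEquivOfEq ?_)⟩
    rw [IsScalarTower.algebraMap_eq R (C ⧸ K) (Localization.AtPrime q), ← Ideal.map_map, hqp]
    congr 1
    rw [Ideal.map_map]
    rfl
  haveI := isLocalRing_fibLocRing R q
  have hCIB : Pi1.IsCompleteIntersection (EGA4.FibLocRing R (C ⧸ K) q) :=
    CIntCI.isCI_of_ringEquiv ((e₀.symm.trans (Ideal.quotEquivOfEq hKJQ.symm)).trans eB) hCI₀
  obtain ⟨Qf, _, hQf⟩ := EGA4Lib.exists_fiber_prime R q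
  let pR := q.comap (algebraMap R (C ⧸ K))
  obtain ⟨ef⟩ := nonempty_fibLocRing_equiv' pR Qf q hQf rfl
  haveI : q.LiesOver pR := ⟨rfl⟩
  haveI : Algebra.EssFiniteType (pR.Fiber (C ⧸ K)) (Localization.AtPrime Qf) :=
    Algebra.EssFiniteType.of_isLocalization _ Qf.primeCompl
  haveI : Algebra.EssFiniteType pR.ResidueField (Localization.AtPrime Qf) :=
    Algebra.EssFiniteType.comp pR.ResidueField (pR.Fiber (C ⧸ K)) _
  exact (S9169.result R (C ⧸ K) pR q Qf hQf).2.2 ⟨1, fun h1 => q.primeCompl.one_mem h1, inferInstance,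
    hflatq, (CIntCI.isCI_iff_isCIOver pR.ResidueField _).1 (CIntCI.isCI_of_ringEquiv ef.symm hCIB)⟩

end Groth.Agent.SmoothingLib.SyntomicLift
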